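import Groth.Prelude.Def_MoreMor
import Groth.Prelude.Def_Hens2
import Groth.Agent.EGA43.BranchCount.EtaleNbhd
import Groth.Agent.EGA43.DimFormula.Points
import Groth.Agent.EGA43.Cons.Topological
import Groth.Agent.DimLib.Morphism

/-!
# Étale neighbourhoods in a fibre and components through a point
-/

set_option autoImplicit false
set_option backward.isDefEq.respectTransparency false
set_option linter.all false

universe u

open CategoryTheory CategoryTheory.Limits AlgebraicGeometry
open Groth.Agent.FlatMorWeight (IsMaximalPt)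

namespace Groth.Agent.EtLib9.FibreBranches

open Groth.Agent

theorem encard_components_eq_minimalPrimes {U : Scheme.{u}} (u : U) :
    {Z : Set ↥U | Z ∈ irreducibleComponents ↥U ∧ u ∈ Z}.encard = (minimalPrimes ↥(U.presheaf.stalk u)).encard := by
  rw [EGA43.BranchCount.encard_components_eq]
  refine (Set.encard_congr (Equiv.ofBijective
    (fun P : ↥(minimalPrimes ↥(U.presheaf.stalk u)) =>
      (⟨EGA43.DimFormula.toPt u ⟨P.1, P.2.1.1⟩, (EGA43.DimFormula.mem_minimalPrimes_iff u _).1 P.2,
        EGA43.DimFormula.toPt_specializes u _⟩ : {a : U | IsMaximalPt a ∧ a ⤳ u}))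
    ⟨fun P Q h => ?_, fun a => ?_⟩)).symm
  · have h' := congrArg Subtype.val h
    change EGA43.DimFormula.toPt u ⟨P.1, P.2.1.1⟩ = EGA43.DimFormula.toPt u ⟨Q.1, Q.2.1.1⟩ at h'
    exact Subtype.ext (congrArg PrimeSpectrum.asIdeal (EGA43.DimFormula.toPt_injective u h') :)
  obtain ⟨a, ha, hau⟩ := a
  obtain ⟨P, rfl⟩ := EGA43.DimFormula.exists_toPt hau
  exact ⟨⟨P.asIdeal, (EGA43.DimFormula.mem_minimalPrimes_iff u P).2 ha⟩, rfl⟩

/-- An open immersion preserves the number of components through a point. -/
theorem encard_components_openImmersion {A B : Scheme.{u}} (m : A ⟶ B) [IsOpenImmersion m] (a : A) :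
    {Z : Set ↥A | Z ∈ irreducibleComponents ↥A ∧ a ∈ Z}.encard =
      {Z : Set ↥B | Z ∈ irreducibleComponents ↥B ∧ m a ∈ Z}.encard := by
  rw [encard_components_eq_minimalPrimes, encard_components_eq_minimalPrimes]
  exact EGA43.BranchCount.encard_minimalPrimes_congr (asIso (m.stalkMap a)).commRingCatIsoToRingEquiv.symm

variable {U X S : Scheme.{u}} (p : U ⟶ X) (f : X ⟶ S) (s : S)

theorem isPullback_fiberMap :
    IsPullback ((p ≫ f).fiberι s) (MoreMor.fiberMap p f s) p (f.fiberι s) :=
  EGA43.Cons.fibre_isPullback p f (S.fromSpecResidueField s)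

theorem etale_fiberMap [Etale p] : Etale (MoreMor.fiberMap p f s) :=
  MorphismProperty.of_isPullback (isPullback_fiberMap p f s) inferInstance

theorem fiberι_fiberMap (a : (p ≫ f).fiber s) :
    f.fiberι s (MoreMor.fiberMap p f s a) = p ((p ≫ f).fiberι s a) := by
  rw [← Scheme.Hom.comp_apply, ← Scheme.Hom.comp_apply, (isPullback_fiberMap p f s).w]

/-- Residue field extensions in the fibre and in the total space agree. -/
theorem residue_bijective_iff (a : (p ≫ f).fiber s) :
    Function.Bijective ((MoreMor.fiberMap p f s).residueFieldMap a) ↔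
      Function.Bijective (p.residueFieldMap ((p ≫ f).fiberι s a)) := by
  haveI := DimLib.isIso_residueFieldMap_of_isPreimmersion (f.fiberι s) (MoreMor.fiberMap p f s a)
  haveI := DimLib.isIso_residueFieldMap_of_isPreimmersion ((p ≫ f).fiberι s) a
  have h1 := ConcreteCategory.bijective_of_isIso ((f.fiberι s).residueFieldMap (MoreMor.fiberMap p f s a))
  have h2 := ConcreteCategory.bijective_of_isIso (((p ≫ f).fiberι s).residueFieldMap a)
  have e : Function.Bijective ((MoreMor.fiberMap p f s ≫ f.fiberι s).residueFieldMap a) ↔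
      Function.Bijective (((p ≫ f).fiberι s ≫ p).residueFieldMap a) := by
    rw [(isPullback_fiberMap p f s).w]
  rw [Scheme.residueFieldMap_comp, Scheme.residueFieldMap_comp] at e
  exact (((Function.Bijective.of_comp_iff _ h1).symm.trans e).trans (Function.Bijective.of_comp_iff' h2 _))

/-- The components of the fibre through the unique point over `a`. -/
theorem setOf_components_eq {Y : Scheme.{u}} (j : Y ⟶ U) [IsPreimmersion j] (a : Y) :
    {Z : Set ↥Y | Z ∈ irreducibleComponents ↥Y ∧ ∃ b ∈ Z, j b = j a} =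
      {Z : Set ↥Y | Z ∈ irreducibleComponents ↥Y ∧ a ∈ Z} := by
  ext Z
  refine and_congr_right fun _ => ⟨fun ⟨b, hb, h⟩ => ?_, fun h => ⟨a, h, rfl⟩⟩
  rwa [← j.isEmbedding.injective h]

end Groth.Agent.EtLib9.FibreBranches
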