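import Groth.Agent.EGA43.PdFlat.Fibre
import Groth.Agent.EGA43.Cons.FibreCrit
import Groth.Agent.CommAlg6.PdBaseChange
import Mathlib

/-! The locus where the fibre projective dimension is bounded is open. -/

set_option autoImplicit false
set_option backward.isDefEq.respectTransparency false
set_option linter.all false

universe u

open TensorProduct CategoryTheory Function

namespace Groth.Agent.FibrePdLocus

variable {A B : Type u} [CommRing A] [CommRing B] [Algebra A B] (q : PrimeSpectrum B)

/-- the prime of the base -/
abbrev pA : Ideal A := q.asIdeal.under A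
/-- the fibre quotient -/
abbrev QB : Type u := B ⧸ (pA (A := A) q).map (algebraMap A B)

/-- the point in the fibre quotient -/
def qQ : Ideal (QB (A := A) q) := q.asIdeal.map (Ideal.Quotient.mk _)

lemma map_le : (pA (A := A) q).map (algebraMap A B) ≤ q.asIdeal :=
  Ideal.map_le_iff_le_comap.2 le_rfl

lemma comap_qQ : (qQ (A := A) q).comap (Ideal.Quotient.mk _) = q.asIdeal := by
  rw [qQ, Ideal.comap_map_of_surjective _ Ideal.Quotient.mk_surjective, sup_eq_left]
  exact fun x hx => map_le q (Ideal.Quotient.eq_zero_iff_mem.1 hx)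

instance : (qQ (A := A) q).IsPrime :=
  Ideal.map_isPrime_of_surjective Ideal.Quotient.mk_surjective (by rw [Ideal.mk_ker]; exact map_le q)

attribute [local instance] Algebra.TensorProduct.rightAlgebra in
lemma isPushout_QB : Algebra.IsPushout A (A ⧸ pA (A := A) q) B (QB (A := A) q) := by
  refine Algebra.IsPushout.symm ?_
  refine Algebra.IsPushout.of_equiv (S' := B ⊗[A] (A ⧸ pA (A := A) q))
    (Algebra.TensorProduct.quotIdealMapEquivTensorQuot B _).symm (RingHom.ext fun x => ?_)
  obtain ⟨x, rfl⟩ := Ideal.Quotient.mk_surjective x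
  show (Algebra.TensorProduct.quotIdealMapEquivTensorQuot B _).symm
      ((1 : B) ⊗ₜ[A] Ideal.Quotient.mk _ x) = Ideal.Quotient.mk _ (algebraMap A B x)
  rw [AlgEquiv.symm_apply_eq, Algebra.TensorProduct.quotIdealMapEquivTensorQuot_mk,
    Algebra.algebraMap_eq_smul_one, TensorProduct.smul_tmul]
  congr 1
  rw [Algebra.smul_def, mul_one]
  rfl

section Local

variable (C : Type u) [CommRing C] [Algebra B C] [Algebra (QB (A := A) q) C]
  [hT : IsScalarTower B (QB (A := A) q) C] [hL : IsLocalization.AtPrime C (qQ (A := A) q)]
include hT hL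

variable {M : Type u} [AddCommGroup M] [Module B M] [Module A M] [IsScalarTower A B M]
  [Module.FinitePresentation B M] [Module.Flat A M]
  [Algebra.FinitePresentation A B] [Module.Flat A B]

theorem projective_iff :
    Module.Projective C (C ⊗[B] M) ↔ q ∈ Module.freeLocus B M := by
  haveI : IsLocalRing C := IsLocalization.AtPrime.isLocalRing C (qQ (A := A) q)
  constructor
  · intro h
    haveI : Module.Flat C (C ⊗[QB (A := A) q] (QB (A := A) q ⊗[B] M)) :=
      Module.Flat.of_linearEquiv (AlgebraTensorModule.cancelBaseChange B (QB (A := A) q) C C M)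
    let S := (qQ (A := A) q).primeCompl
    haveI : IsLocalizedModule S (TensorProduct.mk (QB (A := A) q) C (QB (A := A) q ⊗[B] M) 1) :=
      (isLocalizedModule_iff_isBaseChange S C _).2 (TensorProduct.isBaseChange _ _ C)
    haveI : Module.Flat (QB (A := A) q) C := IsLocalization.flat C S
    haveI : Module.Flat (QB (A := A) q) (C ⊗[QB (A := A) q] (QB (A := A) q ⊗[B] M)) :=
      Module.Flat.trans (QB (A := A) q) C _
    haveI : Module.Flat (QB (A := A) q) (LocalizedModule S (QB (A := A) q ⊗[B] M)) :=
      Module.Flat.of_linearEquiv (IsLocalizedModule.iso S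
        (TensorProduct.mk (QB (A := A) q) C (QB (A := A) q ⊗[B] M) 1))
    haveI := isPushout_QB (A := A) q
    have hfib : EGA43.Cons.FibFlat A B B M
        (PrimeSpectrum.comap (algebraMap B (QB (A := A) q)) ⟨qQ (A := A) q, inferInstance⟩) := by
      refine EGA43.Cons.FibFlat.of_baseChange (A' := A ⧸ pA (A := A) q) (B' := QB (A := A) q)
        (C' := QB (A := A) q) (M' := QB (A := A) q ⊗[B] M)
        (μ := TensorProduct.mk B (QB (A := A) q) M 1) (TensorProduct.isBaseChange B M _) (fun c m => ?_) ?_
      · rw [map_smul, algebraMap_smul]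
      · exact EGA43.Cons.fibFlat_of_flat (by assumption)
    rw [show PrimeSpectrum.comap (algebraMap B (QB (A := A) q)) ⟨qQ (A := A) q, inferInstance⟩ = q from
      PrimeSpectrum.ext (comap_qQ q)] at hfib
    haveI : Module.Flat B (Localization q.asIdeal.primeCompl) := IsLocalization.flat _ q.asIdeal.primeCompl
    haveI : Module.Flat A (Localization q.asIdeal.primeCompl ⊗[B] M) := EGA43.PdFlat.flat_tensor_left
    have hA : Module.Flat A (LocalizedModule q.asIdeal.primeCompl M) :=
      Module.Flat.of_linearEquiv
        ((LocalizedModule.equivTensorProduct q.asIdeal.primeCompl M).restrictScalars A)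
    haveI := EGA43.Cons.flat_of_fibFlat_of_finitePresentation q hA hfib
    haveI : Module.Flat (Localization.AtPrime q.asIdeal) (LocalizedModule q.asIdeal.primeCompl M) :=
      (Module.flat_iff_of_isLocalization (Localization.AtPrime q.asIdeal) q.asIdeal.primeCompl _).2 inferInstance
    exact Module.free_of_flat_of_isLocalRing
  · intro h
    haveI := (Module.mem_freeLocus_iff_tensor q (Localization.AtPrime q.asIdeal)).1 h
    have hu : ∀ x : q.asIdeal.primeCompl, IsUnit (algebraMap B C x) := fun x => by
      rw [IsScalarTower.algebraMap_apply B (QB (A := A) q) C]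
      exact IsLocalization.map_units (M := (qQ (A := A) q).primeCompl) C
        ⟨_, fun hx => x.2 ((comap_qQ q).le hx)⟩
    letI : Algebra (Localization.AtPrime q.asIdeal) C := (IsLocalization.lift (S := Localization.AtPrime q.asIdeal) hu).toAlgebra
    haveI : IsScalarTower B (Localization.AtPrime q.asIdeal) C :=
      .of_algebraMap_eq fun x => (IsLocalization.lift_eq hu x).symm
    exact Module.Projective.of_equiv
      (AlgebraTensorModule.cancelBaseChange B (Localization.AtPrime q.asIdeal) C C M)

theorem pdLE_succ_iff_ker {k : ℕ} (f : (Fin k → B) →ₗ[B] M) (hf : Surjective f) (n : ℕ) :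
    CommAlg6.PdLE C (C ⊗[B] M) (n + 1) ↔ CommAlg6.PdLE C (C ⊗[B] LinearMap.ker f) n := by
  haveI := isPushout_QB (A := A) q
  haveI : Module.Flat (QB (A := A) q) C := IsLocalization.flat C (qQ (A := A) q).primeCompl
  let Q := QB (A := A) q
  let g := f.baseChange Q
  have hg : Surjective g := LinearMap.lTensor_surjective Q hf
  let e₁ : (C ⊗[B] LinearMap.ker f) ≃ₗ[C] C ⊗[Q] (Q ⊗[B] LinearMap.ker f) :=
    (AlgebraTensorModule.cancelBaseChange B Q C C (LinearMap.ker f)).symm
  let e₂ : C ⊗[Q] (Q ⊗[B] LinearMap.ker f) ≃ₗ[C] C ⊗[Q] LinearMap.ker g :=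
    AlgebraTensorModule.congr (LinearEquiv.refl C C)
      (EGA43.PdFlat.kerBaseChangeEquiv' (A := A) (A ⧸ pA (A := A) q) Q f hf)
  let e₃ := CommAlg6.kerBaseChangeEquiv C g
  refine Iff.trans ?_ ((CommAlg6.pdLE_congr e₁ n).trans
    ((CommAlg6.pdLE_congr e₂ n).trans (CommAlg6.pdLE_congr (N := LinearMap.ker (g.baseChange C)) e₃ n))).symm
  rw [← CommAlg6.pdLE_congr (AlgebraTensorModule.cancelBaseChange B Q C C M)]
  exact CommAlg6.pdLE_succ_iff (g.baseChange C) (LinearMap.lTensor_surjective C hg) n

theorem subsingleton_iff : Subsingleton (C ⊗[B] M) ↔ q ∉ Module.support B M := by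
  haveI : IsLocalRing C := IsLocalization.AtPrime.isLocalRing C (qQ (A := A) q)
  have hC : (IsLocalRing.maximalIdeal C).comap (algebraMap B C) = q.asIdeal := by
    rw [IsScalarTower.algebraMap_eq B (QB (A := A) q) C, ← Ideal.comap_comap,
      show (IsLocalRing.maximalIdeal C).comap (algebraMap (QB (A := A) q) C) = qQ (A := A) q from
        IsLocalization.AtPrime.comap_maximalIdeal C (qQ (A := A) q)]
    exact comap_qQ q
  constructor
  · intro h hq
    rw [Module.mem_support_iff_nontrivial_residueField_tensorProduct] at hq
    have hker : RingHom.ker ((IsLocalRing.residue C).comp (algebraMap B C)) = q.asIdeal := by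
      rw [← RingHom.comap_ker, IsLocalRing.ker_residue, hC]
    let φ : q.asIdeal.ResidueField →+* IsLocalRing.ResidueField C :=
      Ideal.ResidueField.lift q.asIdeal _ hker.ge fun x hx => by
        refine isUnit_iff_ne_zero.2 fun h0 => ?_
        exact hx (hker.le h0)
    letI := φ.toAlgebra
    haveI : IsScalarTower B q.asIdeal.ResidueField (IsLocalRing.ResidueField C) :=
      .of_algebraMap_eq fun x => (Ideal.ResidueField.lift_algebraMap ..).symm
    haveI : Subsingleton (IsLocalRing.ResidueField C ⊗[B] M) :=
      (AlgebraTensorModule.cancelBaseChange B C (IsLocalRing.ResidueField C)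
        (IsLocalRing.ResidueField C) M).symm.toEquiv.subsingleton
    haveI : Subsingleton (IsLocalRing.ResidueField C ⊗[q.asIdeal.ResidueField] (q.asIdeal.ResidueField ⊗[B] M)) :=
      (AlgebraTensorModule.cancelBaseChange B q.asIdeal.ResidueField (IsLocalRing.ResidueField C)
        (IsLocalRing.ResidueField C) M).toEquiv.subsingleton
    haveI hfree : Module.Free q.asIdeal.ResidueField (IsLocalRing.ResidueField C) := Module.Free.of_divisionRing _ _
    exact not_subsingleton _ ((Module.FaithfullyFlat.subsingleton_tensorProduct_iff_right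
      q.asIdeal.ResidueField (IsLocalRing.ResidueField C)).1 this)
  · intro hq
    rw [Module.support_eq_zeroLocus, PrimeSpectrum.mem_zeroLocus, Set.not_subset] at hq
    obtain ⟨c, hc, hcq⟩ := hq
    have hu : IsUnit (algebraMap B C c) := IsLocalRing.notMem_maximalIdeal.1 fun h => hcq (hC.le h)
    refine subsingleton_of_forall_eq 0 fun z => ?_
    refine hu.smul_left_cancel.1 ?_
    rw [smul_zero, algebraMap_smul]
    induction z with
    | zero => simp
    | tmul a m => rw [TensorProduct.smul_tmul', TensorProduct.smul_tmul, Module.mem_annihilator.1 hc m, tmul_zero]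
    | add a b ha hb => rw [smul_add, ha, hb, add_zero]

end Local

section Main

variable [Algebra.FinitePresentation A B] [Module.Flat A B]
  (C : PrimeSpectrum B → Type u) [∀ q, CommRing (C q)] [∀ q, Algebra B (C q)]
  [∀ q, Algebra (QB (A := A) q) (C q)] [∀ q, IsScalarTower B (QB (A := A) q) (C q)]
  [∀ q, IsLocalization.AtPrime (C q) (qQ (A := A) q)]

theorem isOpen_pdLE : ∀ (n : ℕ) (M : Type u) [AddCommGroup M] [Module B M] [Module A M]
    [IsScalarTower A B M] [Module.FinitePresentation B M] [Module.Flat A M],
    IsOpen {q : PrimeSpectrum B | CommAlg6.PdLE (C q) (C q ⊗[B] M) n} := by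
  intro n
  induction n with
  | zero =>
    intro M _ _ _ _ _ _
    convert Module.isOpen_freeLocus (R := B) (M := M) using 1
    ext q
    rw [Set.mem_setOf_eq, CommAlg6.pdLE_zero_iff]
    exact projective_iff (A := A) q (C q)
  | succ n ih =>
    intro M _ _ _ _ _ _
    obtain ⟨k, f, hf, hfp, hflat⟩ := EGA43.PdFlat.exists_cover (A := A) (B := B) (M := M)
    convert ih (LinearMap.ker f) using 1
    ext q
    exact pdLE_succ_iff_ker (A := A) q (C q) f hf n

theorem upperSemicontinuous_pd (M : Type u) [AddCommGroup M] [Module B M] [Module A M]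
    [IsScalarTower A B M] [Module.FinitePresentation B M] [Module.Flat A M] :
    UpperSemicontinuous fun q : PrimeSpectrum B =>
      projectiveDimension (ModuleCat.of (C q) (C q ⊗[B] M)) := by
  rw [upperSemicontinuous_iff_isOpen_preimage]
  intro y
  induction y with
  | bot => simp
  | coe c =>
    induction c with
    | top =>
      rw [show (fun q : PrimeSpectrum B => projectiveDimension (ModuleCat.of (C q) (C q ⊗[B] M))) ⁻¹'
          Set.Iio ((⊤ : ℕ∞) : WithBot ℕ∞) =
        (Module.support B M)ᶜ ∪ ⋃ n : ℕ, {q | CommAlg6.PdLE (C q) (C q ⊗[B] M) n} from ?_]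
      · refine IsOpen.union ?_ (isOpen_iUnion fun n => isOpen_pdLE (A := A) C n M)
        rw [Module.support_eq_zeroLocus]
        exact (PrimeSpectrum.isClosed_zeroLocus _).isOpen_compl
      · ext q
        simp only [Set.mem_preimage, Set.mem_Iio, Set.mem_union, Set.mem_compl_iff, Set.mem_iUnion,
          Set.mem_setOf_eq]
        simp only [show ∀ n : ℕ, CommAlg6.PdLE (C q) (C q ⊗[B] M) n ↔
            projectiveDimension (ModuleCat.of (C q) (C q ⊗[B] M)) ≤ n from
          fun n => (CommAlg6.projectiveDimension_le_iff_pdLE n).symm]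
        rw [← subsingleton_iff (A := A) q (C q), ← CommAlg6.projectiveDimension_eq_bot_iff_subsingleton (R := C q)]
        generalize projectiveDimension (ModuleCat.of (C q) (C q ⊗[B] M)) = d
        induction d with
        | bot => simp
        | coe d =>
          induction d with
          | top => simp; exact fun x h => ENat.coe_ne_top x (WithBot.coe_injective h)
          | coe d =>
            simp only [WithBot.coe_lt_coe, ENat.coe_lt_top, true_iff]
            exact Or.inr ⟨d, le_refl _⟩
    | coe n =>
      cases n with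
      | zero =>
        convert (PrimeSpectrum.isClosed_zeroLocus ((Module.annihilator B M : Ideal B) : Set B)).isOpen_compl using 1
        ext q
        rw [← Module.support_eq_zeroLocus, Set.mem_compl_iff, ← subsingleton_iff (A := A) q (C q),
          ← CommAlg6.projectiveDimension_eq_bot_iff_subsingleton (R := C q), Set.mem_preimage, Set.mem_Iio]
        exact WithBot.lt_zero_iff_eq_bot _
      | succ m =>
        convert isOpen_pdLE (A := A) C m M using 1
        ext q
        rw [Set.mem_preimage, Set.mem_Iio, Set.mem_setOf_eq, ← CommAlg6.projectiveDimension_le_iff_pdLE]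
        push_cast
        exact ENat.WithBot.lt_add_one_iff

end Main

theorem result_aux [Algebra.FinitePresentation A B] [Module.Flat A B] (M : Type u) [AddCommGroup M]
    [Module B M] [Module A M] [IsScalarTower A B M] [Module.FinitePresentation B M] [Module.Flat A M]
    (J : ∀ q : PrimeSpectrum B, Ideal (Localization.AtPrime q.asIdeal))
    (hJ : ∀ q, J q = (pA (A := A) q).map (algebraMap A (Localization.AtPrime q.asIdeal))) :
    UpperSemicontinuous fun q : PrimeSpectrum B => projectiveDimension
      (ModuleCat.of (Localization.AtPrime q.asIdeal ⧸ J q) ((Localization.AtPrime q.asIdeal ⧸ J q) ⊗[B] M)) := by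
  obtain rfl : J = fun q => ((pA (A := A) q).map (algebraMap A B)).map
      (algebraMap B (Localization.AtPrime q.asIdeal)) := funext fun q => by
    rw [hJ, Ideal.map_map, ← IsScalarTower.algebraMap_eq]
  haveI hloc : ∀ q : PrimeSpectrum B, IsLocalization.AtPrime
      (Localization.AtPrime q.asIdeal ⧸ ((pA (A := A) q).map (algebraMap A B)).map
        (algebraMap B (Localization.AtPrime q.asIdeal))) (qQ (A := A) q) := fun q => by
    have h : Algebra.algebraMapSubmonoid (QB (A := A) q) q.asIdeal.primeCompl = (qQ (A := A) q).primeCompl := by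
      ext z
      obtain ⟨z, rfl⟩ := Ideal.Quotient.mk_surjective z
      constructor
      · rintro ⟨y, hy, hyz⟩
        change Ideal.Quotient.mk _ y = Ideal.Quotient.mk _ z at hyz
        intro hz
        exact hy ((comap_qQ q).le (show Ideal.Quotient.mk _ y ∈ qQ (A := A) q from hyz ▸ hz))
      · exact fun hz => ⟨z, fun hzq => hz (Ideal.mem_map_of_mem _ hzq), rfl⟩
    change IsLocalization (qQ (A := A) q).primeCompl _
    rw [← h]
    infer_instance
  exact upperSemicontinuous_pd (A := A) (fun q => Localization.AtPrime q.asIdeal ⧸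
    ((pA (A := A) q).map (algebraMap A B)).map (algebraMap B (Localization.AtPrime q.asIdeal))) M

end Groth.Agent.FibrePdLocus
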