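import Groth.Agent.FModLib.QcohFormal
import Groth.Agent.DerCompLib.RestrAdj

/-!
# Filtered colimits of coherent modules on formal schemes are quasi-coherent

A colimit of modules with presentations has a presentation as soon as generators lift along the
transition maps.
-/

set_option autoImplicit false
set_option backward.isDefEq.respectTransparency false
set_option linter.all false

universe u v₁ u₁

open CategoryTheory CategoryTheory.Limits Opposite TopologicalSpace AlgebraicGeometry

namespace Groth.Agent.EtLib9.IndCoh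

section Gen

open SheafOfModules

variable {C : Type u₁} [Category.{v₁} C] {J : GrothendieckTopology C} {R : Sheaf J RingCat.{u}}
  [HasSheafify J AddCommGrpCat.{u}] [J.WEqualsLocallyBijective AddCommGrpCat.{u}]

set_option maxHeartbeats 1600000 in
theorem presentation_of_colimit {K : Type u} [SmallCategory K] (D : K ⥤ SheafOfModules.{u} R)
    (c : Cocone D) (hc : IsColimit c) (Pr : ∀ j, (D.obj j).Presentation)
    (lift : ∀ (i j : K) (f : i ⟶ j) (e : (Pr i).generators.I),
      ∃ g : unit R ⟶ free (Pr j).generators.I,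
        g ≫ (Pr j).generators.π = ιFree e ≫ (Pr i).generators.π ≫ D.map f) :
    Nonempty c.pt.Presentation := by
  choose g hg using lift
  let σ : Type u := Σ j, (Pr j).generators.I
  let inj (j : K) : free (R := R) (Pr j).generators.I ⟶ free σ := freeMap (R := R) (fun e => (⟨j, e⟩ : σ))
  let rel (j : K) : free (Pr j).relations.I ⟶ free (R := R) (Pr j).generators.I :=
    (Pr j).relations.π ≫ kernel.ι (Pr j).generators.π
  let ρ : Type u := (Σ j, (Pr j).relations.I) ⊕ (Σ (p : K × K), (p.1 ⟶ p.2) × (Pr p.1).generators.I)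
  let relMor : ρ → (unit R ⟶ free σ) := fun x => Sum.elim
    (fun x => ιFree x.2 ≫ rel x.1 ≫ inj x.1)
    (fun x => ιFree x.2.2 ≫ inj x.1.1 - g x.1.1 x.1.2 x.2.1 x.2.2 ≫ inj x.1.2) x
  let φ : free ρ ⟶ free σ := Cofan.IsColimit.desc (isColimitFreeCofan ρ) relMor
  let π : free σ ⟶ c.pt :=
    Cofan.IsColimit.desc (isColimitFreeCofan σ) (fun x => ιFree x.2 ≫ (Pr x.1).generators.π ≫ c.ι.app x.1)
  have hφ : ∀ x, ιFree x ≫ φ = relMor x := fun x => Cofan.IsColimit.fac (isColimitFreeCofan ρ) _ x
  have hπ : ∀ j, inj j ≫ π = (Pr j).generators.π ≫ c.ι.app j := fun j =>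
    Cofan.IsColimit.hom_ext (isColimitFreeCofan _) _ _ fun e => by
      rw [freeCofan_inj, ιFree_freeMap_assoc]
      exact Cofan.IsColimit.fac (isColimitFreeCofan σ) _ (⟨j, e⟩ : σ)
  have hrel : ∀ j, rel j ≫ (Pr j).generators.π = 0 := fun j => by simp [rel]
  have hcond : φ ≫ π = 0 := Cofan.IsColimit.hom_ext (isColimitFreeCofan _) _ _ fun x => by
    rw [freeCofan_inj, reassoc_of% (hφ x), comp_zero]
    rcases x with ⟨j, l⟩ | ⟨⟨i, j⟩, f, e⟩
    · simp only [relMor, Sum.elim_inl, Category.assoc, hπ, reassoc_of% (hrel j), zero_comp, comp_zero]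
    · simp only [relMor, Sum.elim_inr, Preadditive.sub_comp, Category.assoc, hπ]
      rw [reassoc_of% (hg i j f e), c.w, sub_self]
  haveI hepi : Epi π := ⟨fun a b hab => hc.hom_ext fun j => by
    haveI := (Pr j).generators.epi
    rw [← cancel_epi (Pr j).generators.π, ← reassoc_of% (hπ j), ← reassoc_of% (hπ j), hab]⟩
  have key : ∀ {T : SheafOfModules.{u} R} (k : free σ ⟶ T), φ ≫ k = 0 → ∃ l : c.pt ⟶ T, π ≫ l = k := by
    intro T k hk
    have hk' : ∀ x, relMor x ≫ k = 0 := fun x => by rw [← hφ, Category.assoc, hk, comp_zero]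
    have h1 : ∀ j, rel j ≫ inj j ≫ k = 0 := fun j => Cofan.IsColimit.hom_ext (isColimitFreeCofan _) _ _ fun l => by
      rw [freeCofan_inj, comp_zero]
      have := hk' (Sum.inl ⟨j, l⟩)
      simpa only [relMor, Sum.elim_inl, Category.assoc] using this
    have h2 : ∀ j, kernel.ι (Pr j).generators.π ≫ inj j ≫ k = 0 := fun j => by
      haveI := (Pr j).relations.epi
      rw [← cancel_epi (Pr j).relations.π, comp_zero, ← Category.assoc]
      exact h1 j
    choose d hd using fun j => (by
      haveI := (Pr j).generators.epi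
      exact ⟨Abelian.epiDesc (Pr j).generators.π _ (h2 j), Abelian.comp_epiDesc (Pr j).generators.π _ (h2 j)⟩ :
      ∃ d : D.obj j ⟶ T, (Pr j).generators.π ≫ d = inj j ≫ k)
    let s : Cocone D := Cocone.mk T
      { app := d
        naturality := fun i j f => by
          haveI := (Pr i).generators.epi
          simp only [Functor.const_obj_map, Functor.const_obj_obj, Category.comp_id]
          refine (cancel_epi (Pr i).generators.π).1 (Cofan.IsColimit.hom_ext (isColimitFreeCofan _) _ _ fun e => ?_)
          have h3 := hk' (Sum.inr ⟨(i, j), f, e⟩)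
          simp only [relMor, Sum.elim_inr, Preadditive.sub_comp, Category.assoc, sub_eq_zero] at h3
          rw [freeCofan_inj, hd i, h3, ← hd j, reassoc_of% (hg i j f e)] }
    refine ⟨hc.desc s, Cofan.IsColimit.hom_ext (isColimitFreeCofan σ) _ _ ?_⟩
    rintro ⟨j, e⟩
    rw [freeCofan_inj, show ιFree (⟨j, e⟩ : σ) = ιFree e ≫ inj j from (ιFree_freeMap _ _).symm,
      Category.assoc, reassoc_of% (hπ j), hc.fac, Category.assoc, hd]
  choose desc hdesc using fun {T : SheafOfModules.{u} R} (k : free σ ⟶ T) (hk : φ ≫ k = 0) => key k hk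
  exact ⟨presentationOfIsCokernelFree φ π hcond
    (CokernelCofork.IsColimit.ofπ π hcond (fun k hk => desc k hk) (fun k hk => hdesc k hk)
      (fun k hk b hb => (cancel_epi π).1 (hb.trans (hdesc k hk).symm)))⟩

end Gen

end Groth.Agent.EtLib9.IndCoh

open Groth.Agent.DerCompLib

namespace Groth.Agent.FModLib

variable {T : TopCat.{u}} {O : Sheaf (Opens.grothendieckTopology T) CommRingCat.{u}} {P : Opens T → Prop}

set_option maxHeartbeats 1500000 in
theorem exists_presentation_of_span_surj {U : Opens T}
    (hb : ∀ (U : Opens T) (x : T), x ∈ U → ∃ V : Opens T, P V ∧ x ∈ V ∧ V ≤ U) (N : ModSite.Mod (O.over U)) {I L : Type u} [Fintype I] [Fintype L]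
    (t : I → Sec N (ovTop U)) (r : L → I → (O.over U).obj.obj (op (ovTop U)))
    (hr : ∀ l, ∑ k, r l k • t k = 0)
    (hPU : P U) (hgen : ∀ V : Over U, P V.left →
      Submodule.span ((O.over U).obj.obj (op V)) (Set.range fun k => secRes N (toTop V) (t k)) = ⊤)
    (hrel : ∀ V : Over U, P V.left → ∀ a : I → (O.over U).obj.obj (op V),
      ∑ k, a k • secRes N (toTop V) (t k) = 0 →
        a ∈ Submodule.span ((O.over U).obj.obj (op V)) (Set.range fun l => rT V ∘ r l)) :
    ∃ Pr : SheafOfModules.Presentation (M := N),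
      Function.Surjective (secMap Pr.generators.π (ovTop U)) := by
  let π := N.freeHomEquiv.symm fun k => mkSec N (t k)
  haveI hepi : Epi π := epi_of_span hb N t hgen
  have hker : ∀ l, secMap π (ovTop U) (∑ k, r l k • freeVec (O.over U) k (ovTop U)) = 0 := fun l => by
    rw [secMap_comb, ← hr l]
    refine Finset.sum_congr rfl fun k _ => congrArg (r l k • ·) ?_
    rw [imgVec_mkSec, secRes_toTop_self]
  choose κ hκ using fun l => exists_kernel_sec π (ovTop U) _ (hker l)
  have hepi' : Epi ((kernel π).freeHomEquiv.symm fun l => mkSec (kernel π) (κ l)) := by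
    refine epi_of_span hb (kernel π) κ fun V hV => top_unique fun x _ => ?_
    let p := secMap (kernel.ι π) V x
    have ha : ∑ k, coordAt (O.over U) V p k • secRes N (toTop V) (t k) = 0 := by
      have := kernel_sec_condition π V x
      rw [secMap_free (O.over U) π V p] at this
      simpa only [π, imgVec_mkSec] using this
    obtain ⟨c, hc⟩ := (Submodule.mem_span_range_iff_exists_fun _).1 (hrel V hV _ ha)
    refine (Submodule.mem_span_range_iff_exists_fun _).2 ⟨c, ?_⟩
    apply kernel_sec_injective π V
    refine free_ext (O.over U) V fun k => ?_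
    refine (coordAt_map_comb (O.over U) (kernel.ι π) c _ (fun l k => rT V (r l k)) (fun l => ?_) k).trans ?_
    · rw [secMap_secRes', hκ, secRes_comb]
    have := congrFun hc k
    simp only [Finset.sum_apply, Pi.smul_apply, smul_eq_mul, Function.comp_apply] at this
    exact this
  refine ⟨⟨⟨_, fun k => mkSec N (t k), hepi⟩, ⟨_, fun l => mkSec (kernel π) (κ l), hepi'⟩⟩, fun x => ?_⟩
  obtain ⟨c, hc⟩ := (Submodule.mem_span_range_iff_exists_fun _).1
    (show x ∈ Submodule.span ((O.over U).obj.obj (op (ovTop U))) (Set.range fun k => secRes N (toTop (ovTop U)) (t k)) by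
      rw [hgen (ovTop U) hPU]; trivial)
  refine ⟨∑ k, c k • freeVec (O.over U) k (ovTop U), ?_⟩
  refine (secMap_comb (N := N) π (ovTop U) c).trans (Eq.trans ?_ hc)
  exact Finset.sum_congr rfl fun k _ => congrArg (c k • ·) (imgVec_mkSec N t (ovTop U) k)


theorem exists_presentation_surj (hG : GoodRing O P) {M : ModSite.Mod O} (hM : IsPC P M) {U : Opens T} (hU : P U) :
    ∃ Pr : SheafOfModules.Presentation (M := overMod M U),
      Function.Surjective (secMap Pr.generators.π (ovTop U)) := by
  haveI := hM.finite U hU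
  haveI := hG.noeth U hU
  obtain ⟨n, g, hg⟩ := Module.Finite.exists_fin (R := O.obj.obj (op U)) (M := Sec M U)
  obtain ⟨L, r, hr⟩ := Submodule.fg_iff_exists_fin_generating_family.1
    (IsNoetherian.noetherian (relsOf (O.obj.obj (op U)) g))
  refine exists_presentation_of_span_surj hG.basis (overMod M U) (I := ULift.{u} (Fin n)) (L := ULift.{u} (Fin L))
    (fun k => g k.down) (fun l k => r l.down k.down) (fun l => ?_) hU (fun V hV => ?_) (fun V hV a ha => ?_)
  · have hl : ∑ j, r l.down j • g j = 0 := mem_relsOf.1 (hr ▸ Submodule.subset_span ⟨l.down, rfl⟩)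
    refine Eq.trans ?_ hl
    exact Finset.sum_bijective Equiv.ulift Equiv.ulift.bijective (by simp) fun k _ => rfl
  · have h1 := hM.span_range (leOfHom V.hom) hU hV g hg
    rw [← Equiv.ulift.{u}.surjective.range_comp] at h1
    exact h1
  · have h1 := hM.rels U V.left (leOfHom V.hom) hU hV n g (fun j => a ⟨j⟩) (by
      refine Eq.trans ?_ ha
      exact (Finset.sum_bijective Equiv.ulift Equiv.ulift.bijective (by simp) fun k _ => rfl).symm)
    have h2 := Submodule.mem_map_of_mem
      (f := (LinearMap.funLeft (O.obj.obj (op V.left)) (O.obj.obj (op V.left))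
        (ULift.down : ULift.{u} (Fin n) → Fin n))) h1
    rw [Submodule.map_span] at h2
    refine Submodule.span_le.2 ?_ h2
    rintro _ ⟨_, ⟨y, hy, rfl⟩, rfl⟩
    rw [SetLike.mem_coe, ← hr] at hy
    obtain ⟨c, rfl⟩ := (Submodule.mem_span_range_iff_exists_fun _).1 hy
    refine (Submodule.mem_span_range_iff_exists_fun _).2 ⟨fun l => oRes O (leOfHom V.hom) (c l.down), ?_⟩
    funext k
    simp only [Finset.sum_apply, Pi.smul_apply, smul_eq_mul, LinearMap.funLeft_apply, Function.comp_apply, map_sum, map_mul]
    exact Finset.sum_bijective Equiv.ulift Equiv.ulift.bijective (by simp) fun l _ => rfl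

end Groth.Agent.FModLib

namespace Groth.Agent.EtLib9.IndCoh

open Groth.Agent.FModLib

variable {T : TopCat.{u}} {O : Sheaf (Opens.grothendieckTopology T) CommRingCat.{u}} {P : Opens T → Prop}

theorem sections_ext_top {U : Opens T} (N : ModSite.Mod (O.over U)) (a b : N.sections)
    (h : a.val (op (ovTop U)) = b.val (op (ovTop U))) : a = b := by
  apply PresheafOfModules.sections_ext
  intro V
  rw [← PresheafOfModules.sections_property a (toTop V.unop).op, h]
  exact PresheafOfModules.sections_property b (toTop V.unop).op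

theorem exists_unit_lift {U : Opens T} {F N : ModSite.Mod (O.over U)} (π : F ⟶ N)
    (hπ : Function.Surjective (secMap π (ovTop U))) (m : SheafOfModules.unit _ ⟶ N) :
    ∃ g : SheafOfModules.unit _ ⟶ F, g ≫ π = m := by
  obtain ⟨y, hy⟩ := hπ ((N.unitHomEquiv m).val (op (ovTop U)))
  refine ⟨F.unitHomEquiv.symm (mkSec F y), N.unitHomEquiv.injective ?_⟩
  rw [SheafOfModules.unitHomEquiv_comp_apply, Equiv.apply_symm_apply]
  refine sections_ext_top N _ _ (Eq.trans ?_ hy)
  exact congrArg (secMap π (ovTop U)) (secRes_toTop_self F y)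

/-- Colimits of modules with good sections are quasi-coherent. -/
theorem isQuasicoherent_colimit (hG : GoodRing O P) {K : Type u} [SmallCategory K]
    (D : K ⥤ ModSite.Mod O) (c : Cocone D) (hc : IsColimit c) (hD : ∀ j, IsPC P (D.obj j)) :
    SheafOfModules.IsQuasicoherent.{u} c.pt := by
  have key : ∀ U : {U : Opens T // P U}, Nonempty (SheafOfModules.Presentation (M := overMod c.pt U.1)) := by
    rintro ⟨U, hU⟩
    haveI := DerCompLib.preservesColimitsOfShape_restr O U K
    choose Pr hPr using fun j => exists_presentation_surj hG (hD j) hU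
    exact presentation_of_colimit (D ⋙ ModSite.restr O U) _ (isColimitOfPreserves (ModSite.restr O U) hc) Pr
      (fun i j f e => exists_unit_lift _ (hPr j) _)
  have pr := fun U => (key U).some
  constructor
  refine ⟨{ I := {U : Opens T // P U}, X := fun U => U.1, coversTop := fun V x hx => ?_,
            presentation := fun U => pr U }⟩
  obtain ⟨W, hW, hxW, hWV⟩ := hG.basis V x hx
  exact ⟨W, homOfLE hWV, ⟨⟨W, hW⟩, ⟨𝟙 W⟩⟩, hxW⟩

end Groth.Agent.EtLib9.IndCoh
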