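import Mathlib
import Groth.Agent.H8Lim.SpreadOut

/-! Spreading out morphisms from spectra of local rings, and morphisms determined by their restrictions to them. -/

set_option autoImplicit false

universe u

open CategoryTheory Limits AlgebraicGeometry

namespace Groth.Agent.StalkSpread

variable {X Y S : Scheme.{u}}

theorem exists_nbhd_eq (sY : Y ⟶ S) [LocallyOfFiniteType sY] (f g : X ⟶ Y) (hfg : f ≫ sY = g ≫ sY)
    (x : X) (h : X.fromSpecStalk x ≫ f = X.fromSpecStalk x ≫ g) :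
    ∃ U : X.Opens, x ∈ U ∧ U.ι ≫ f = U.ι ≫ g := by
  have e : f x = g x := by
    have h1 := congr($h (IsLocalRing.closedPoint (X.presheaf.stalk x)))
    simpa [Scheme.fromSpecStalk_closedPoint] using h1
  refine H8Lim.spread_out_unique (f ≫ sY) sY f g rfl hfg.symm e (Spec.map_injective ?_)
  rw [← cancel_mono (Y.fromSpecStalk (f x)), Spec.map_comp, Category.assoc,
    Scheme.SpecMap_stalkSpecializes_fromSpecStalk, Scheme.SpecMap_stalkMap_fromSpecStalk,
    Scheme.SpecMap_stalkMap_fromSpecStalk, h]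

theorem hom_ext (sY : Y ⟶ S) [LocallyOfFiniteType sY] (f g : X ⟶ Y) (hfg : f ≫ sY = g ≫ sY)
    (h : ∀ x, X.fromSpecStalk x ≫ f = X.fromSpecStalk x ≫ g) : f = g := by
  choose U hU hUe using fun x => exists_nbhd_eq sY f g hfg x (h x)
  exact (X.openCoverOfIsOpenCover U (.mk (top_le_iff.1 fun x _ => TopologicalSpace.Opens.mem_iSup.2 ⟨x, hU x⟩))).hom_ext _ _ hUe

theorem exists_extension (sX : X ⟶ S) (sY : Y ⟶ S) [LocallyOfFinitePresentation sY] (x : X)
    (m : Spec (X.presheaf.stalk x) ⟶ Y) (hm : m ≫ sY = X.fromSpecStalk x ≫ sX) :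
    ∃ (U : X.Opens) (hx : x ∈ U) (f : U.toScheme ⟶ Y),
      U.fromSpecStalkOfMem x hx ≫ f = m ∧ f ≫ sY = U.ι ≫ sX := by
  let φ := Scheme.stalkClosedPointTo m
  have hφ : Spec.map φ ≫ Y.fromSpecStalk _ = m := Scheme.Spec_stalkClosedPointTo_fromSpecStalk m
  have e : sX x = sY (m (IsLocalRing.closedPoint (X.presheaf.stalk x))) := by
    have h1 := congr($hm (IsLocalRing.closedPoint (X.presheaf.stalk x)))
    simpa [Scheme.fromSpecStalk_closedPoint] using h1.symm
  obtain ⟨U, hx, f, h1, h2⟩ := H8Lim.spread_out sX sY e φ (Spec.map_injective (by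
    rw [← cancel_mono (S.fromSpecStalk _), Spec.map_comp, Spec.map_comp, Category.assoc, Category.assoc,
      Scheme.SpecMap_stalkSpecializes_fromSpecStalk, Scheme.SpecMap_stalkMap_fromSpecStalk,
      Scheme.SpecMap_stalkMap_fromSpecStalk, reassoc_of% hφ, hm]))
  exact ⟨U, hx, f, h1.symm.trans hφ, h2⟩

end Groth.Agent.StalkSpread
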