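import Groth.Agent.TorB16.BaseChange
import Groth.Agent.HTor16.Consequences
import Mathlib

/-! Tor is symmetric as a bifunctor. -/

set_option autoImplicit false
set_option backward.isDefEq.respectTransparency false
set_option linter.all false
universe u

open CategoryTheory CategoryTheory.Limits MonoidalCategory TensorProduct

namespace Groth.Agent.TorFlip

open Groth.Agent.HTor16 (freeLC rel)

variable {A : Type u} [CommRing A]

abbrev MC (A : Type u) [CommRing A] := ModuleCat.{u} A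

/-- free module on the elements -/
noncomputable abbrev Fo (N : MC A) : MC A := ModuleCat.of A ((N : Type u) →₀ A)
/-- relations -/
noncomputable abbrev Ko (N : MC A) : MC A := ModuleCat.of A (rel N)
noncomputable abbrev inc (N : MC A) : Ko N ⟶ Fo N := ModuleCat.ofHom (rel N).subtype
noncomputable abbrev pr (N : MC A) : Fo N ⟶ N := ModuleCat.ofHom (freeLC N)

noncomputable def Fm {N N' : MC A} (g : N ⟶ N') : Fo N ⟶ Fo N' := ModuleCat.ofHom (Finsupp.lmapDomain A A g)

lemma Fm_pr {N N' : MC A} (g : N ⟶ N') : Fm g ≫ pr N' = pr N ≫ g := by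
  refine ModuleCat.hom_ext (Finsupp.lhom_ext fun a b => ?_)
  simp [Fm, freeLC]

noncomputable def Km {N N' : MC A} (g : N ⟶ N') : Ko N ⟶ Ko N' :=
  ModuleCat.ofHom ((Fm g).hom.restrict (p := rel N) (q := rel N') fun x hx => by
    rw [LinearMap.mem_ker] at hx ⊢
    show pr N' (Fm g x) = 0
    rw [← ConcreteCategory.comp_apply, Fm_pr]
    show g (freeLC N x) = 0
    rw [hx, map_zero])

lemma Km_inc {N N' : MC A} (g : N ⟶ N') : Km g ≫ inc N' = inc N ≫ Fm g := rfl

lemma inc_pr (N : MC A) : inc N ≫ pr N = 0 := ModuleCat.hom_ext (LinearMap.ext fun x => x.2)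

lemma pr_surjective (N : MC A) : Function.Surjective (freeLC N) := fun x =>
  ⟨Finsupp.single x 1, (Finsupp.linearCombination_single A _ _).trans (one_smul A x)⟩

lemma inc_pr_exact (N : MC A) : Function.Exact (inc N).hom (pr N).hom :=
  LinearMap.exact_iff.2 (rel N).range_subtype.symm

noncomputable def Kn : ℕ → MC A → MC A
  | 0, N => N
  | n + 1, N => Ko (Kn n N)

noncomputable def Knm : ∀ (n : ℕ) {N N' : MC A}, (N ⟶ N') → (Kn n N ⟶ Kn n N')
  | 0, _, _, g => g
  | n + 1, _, _, g => Km (Knm n g)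

lemma Fm_id (N : MC A) : Fm (𝟙 N) = 𝟙 _ := by
  refine ModuleCat.hom_ext (Finsupp.lhom_ext fun a b => ?_)
  simp [Fm]

lemma Km_id (N : MC A) : Km (𝟙 N) = 𝟙 _ := by
  refine ModuleCat.hom_ext (LinearMap.ext fun x => Subtype.ext ?_)
  show Fm (𝟙 N) x.1 = x.1
  rw [Fm_id]
  rfl

lemma Knm_id : ∀ (n : ℕ) (N : MC A), Knm n (𝟙 N) = 𝟙 _
  | 0, _ => rfl
  | n + 1, N => by
    show Km (Knm n (𝟙 N)) = _
    rw [Knm_id n N, Km_id]
    rfl

noncomputable abbrev RX (N : MC A) (n : ℕ) : MC A := Fo (Kn n N)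
noncomputable abbrev Rd (N : MC A) (n : ℕ) : RX N (n + 1) ⟶ RX N n := pr (Kn (n + 1) N) ≫ inc (Kn n N)

lemma Rd_comp (N : MC A) (n : ℕ) : Rd N (n + 1) ≫ Rd N n = 0 := by
  show (pr _ ≫ inc (Ko (Kn n N))) ≫ pr (Ko (Kn n N)) ≫ inc (Kn n N) = 0
  rw [Category.assoc, ← Category.assoc (inc _) (pr _), inc_pr, zero_comp, comp_zero]

noncomputable def Rc (N : MC A) : ChainComplex (MC A) ℕ := ChainComplex.of (RX N) (Rd N) (Rd_comp N)

lemma Rc_d (N : MC A) (n : ℕ) : (Rc N).d (n + 1) n = Rd N n := ChainComplex.of_d _ _ _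

noncomputable def Rm {N N' : MC A} (g : N ⟶ N') : Rc N ⟶ Rc N' :=
  ChainComplex.ofHom (fun n => Fm (Knm n g)) fun n => by
      rw [Rc_d, Rc_d]
      show Fm (Km (Knm n g)) ≫ pr (Ko _) ≫ inc _ = (pr (Ko _) ≫ inc _) ≫ Fm _
      rw [← Category.assoc, Fm_pr, Category.assoc, Km_inc, Category.assoc]

lemma Rc_exact (N : MC A) (n : ℕ) :
    Function.Exact ((Rc N).d (n + 2) (n + 1)).hom ((Rc N).d (n + 1) n).hom := by
  rw [Rc_d, Rc_d]
  intro x
  constructor
  · intro hx
    have h0 : pr (Kn (n + 1) N) x = 0 := Subtype.ext hx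
    obtain ⟨y, hy⟩ := pr_surjective (Kn (n + 2) N) ⟨x, h0⟩
    exact ⟨y, congrArg Subtype.val hy⟩
  · rintro ⟨y, rfl⟩
    exact ConcreteCategory.congr_hom (Rd_comp N n) y

noncomputable def res (N : MC A) : ProjectiveResolution N :=
  TorB16.resolutionMk (Rc N) (fun n => HTor16.freeSES_projective (Kn n N)) (pr N)
    (by
      rw [Rc_d]
      show (pr _ ≫ inc N) ≫ pr N = 0
      rw [Category.assoc, inc_pr, comp_zero])
    (pr_surjective N)
    (by
      rw [Rc_d]
      intro x
      constructor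
      · intro hx
        obtain ⟨y, hy⟩ := pr_surjective (Kn 1 N) ⟨x, hx⟩
        exact ⟨y, congrArg Subtype.val hy⟩
      · rintro ⟨y, rfl⟩
        exact (freeLC (Kn 1 N) y).2)
    (Rc_exact N)

/-- `X ⊗ R(Y)`. -/
noncomputable abbrev C (X Y : MC A) : ChainComplex (MC A) ℕ :=
  (((tensoringLeft (MC A)).obj X).mapHomologicalComplex (ComplexShape.down ℕ)).obj (Rc Y)

noncomputable def CM {X X' Y Y' : MC A} (f : X ⟶ X') (g : Y ⟶ Y') : C X Y ⟶ C X' Y' :=
  (NatTrans.mapHomologicalComplex ((tensoringLeft (MC A)).map f) _).app (Rc Y) ≫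
    (((tensoringLeft (MC A)).obj X').mapHomologicalComplex (ComplexShape.down ℕ)).map (Rm g)

lemma CM_f {X X' Y Y' : MC A} (f : X ⟶ X') (g : Y ⟶ Y') (n : ℕ) :
    ((CM f g).f n).hom = TensorProduct.map f.hom (Fm (Knm n g)).hom := by
  refine TensorProduct.ext' fun x y => ?_
  simp [CM, Rm]
  rfl

lemma C_d (X Y : MC A) (n : ℕ) : ((C X Y).d (n + 1) n).hom = (Rd Y n).hom.lTensor X := by
  show (X ◁ (Rc Y).d (n + 1) n).hom = _
  rw [Rc_d]
  rfl

noncomputable def bb (X Y : MC A) (n : ℕ) : (C X Y).X n ⟶ ModuleCat.of A (X ⊗[A] Kn n Y) :=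
  ModuleCat.ofHom ((pr (Kn n Y)).hom.lTensor X)

lemma bb_d (X Y : MC A) (n : ℕ) : (C X Y).d (n + 1) n ≫ bb X Y n = 0 := by
  refine ModuleCat.hom_ext ?_
  rw [ModuleCat.hom_comp, C_d]
  show (pr (Kn n Y)).hom.lTensor X ∘ₗ (Rd Y n).hom.lTensor X = 0
  rw [← LinearMap.lTensor_comp, ← ModuleCat.hom_comp, Category.assoc, inc_pr, comp_zero]
  simp

/-- `H_n(X ⊗ R Y) → X ⊗ K^n Y`. -/
noncomputable def β (X Y : MC A) (n : ℕ) : (C X Y).homology n ⟶ ModuleCat.of A (X ⊗[A] Kn n Y) :=
  (C X Y).homologyι n ≫ (C X Y).descOpcycles (bb X Y n) (n + 1) (by simp) (bb_d X Y n)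

lemma β_π (X Y : MC A) (n : ℕ) :
    (C X Y).homologyπ n ≫ β X Y n = (C X Y).iCycles n ≫ bb X Y n := by
  simp [β]

lemma β_natural {X X' Y Y' : MC A} (f : X ⟶ X') (g : Y ⟶ Y') (n : ℕ) :
    HomologicalComplex.homologyMap (CM f g) n ≫ β X' Y' n =
      β X Y n ≫ ModuleCat.ofHom (TensorProduct.map f.hom (Knm n g).hom) := by
  rw [← cancel_epi ((C X Y).homologyπ n), HomologicalComplex.homologyπ_naturality_assoc, β_π,
    HomologicalComplex.cyclesMap_i_assoc, reassoc_of% β_π X Y n]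
  congr 1
  refine ModuleCat.hom_ext ?_
  rw [ModuleCat.hom_comp, ModuleCat.hom_comp, CM_f]
  refine TensorProduct.ext' fun x y => ?_
  show f x ⊗ₜ[A] (pr (Kn n Y')) (Fm (Knm n g) y) = f x ⊗ₜ[A] (Knm n g) (pr (Kn n Y) y)
  rw [← ConcreteCategory.comp_apply, Fm_pr]
  rfl

lemma β_injective (X Y : MC A) (n : ℕ) : Function.Injective (β X Y n).hom := by
  refine (injective_iff_map_eq_zero _).2 fun c hc => ?_
  obtain ⟨z, rfl⟩ := (ModuleCat.epi_iff_surjective ((C X Y).homologyπ n)).1 inferInstance c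
  have h1 : (pr (Kn n Y)).hom.lTensor X ((C X Y).iCycles n z) = 0 :=
    (ConcreteCategory.congr_hom (β_π X Y n) z).symm.trans hc
  obtain ⟨w, hw⟩ := ((lTensor_exact X (inc_pr_exact (Kn n Y)) (pr_surjective _)) _).1 h1
  obtain ⟨y, hy⟩ := LinearMap.lTensor_surjective (X : Type u) (pr_surjective (Kn (n + 1) Y)) w
  have hz : (C X Y).toCycles (n + 1) n y = z := by
    refine (ModuleCat.mono_iff_injective ((C X Y).iCycles n)).1 inferInstance ?_
    rw [← ConcreteCategory.comp_apply, HomologicalComplex.toCycles_i]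
    show ((C X Y).d (n + 1) n).hom y = _
    rw [C_d, ← hw, ← hy]
    exact (LinearMap.congr_fun (LinearMap.lTensor_comp X _ _) y)
  rw [← hz, ← ConcreteCategory.comp_apply, HomologicalComplex.toCycles_comp_homologyπ]
  rfl

lemma β_zero_surjective (X Y : MC A) : Function.Surjective (β X Y 0).hom := by
  intro w
  obtain ⟨x, hx⟩ := LinearMap.lTensor_surjective (X : Type u) (pr_surjective Y) w
  haveI := (C X Y).isIso_iCycles 0 0 (by simp) (by simp)
  obtain ⟨z, hz⟩ := (ModuleCat.epi_iff_surjective ((C X Y).iCycles 0)).1 inferInstance x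
  exact ⟨(C X Y).homologyπ 0 z, (ConcreteCategory.congr_hom (β_π X Y 0) z).trans
    ((congrArg ((pr Y).hom.lTensor X) hz).trans hx)⟩

lemma β_range (X Y : MC A) (n : ℕ) :
    LinearMap.range (β X Y (n + 1)).hom = LinearMap.ker ((inc (Kn n Y)).hom.lTensor X) := by
  refine le_antisymm ?_ fun w hw => ?_
  · rintro _ ⟨c, rfl⟩
    obtain ⟨z, rfl⟩ := (ModuleCat.epi_iff_surjective ((C X Y).homologyπ (n + 1))).1 inferInstance c
    rw [LinearMap.mem_ker]
    show (inc (Kn n Y)).hom.lTensor X (((C X Y).homologyπ (n + 1) ≫ β X Y (n + 1)) z) = 0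
    rw [β_π]
    have h : ((C X Y).d (n + 1) n).hom ((C X Y).iCycles (n + 1) z) = 0 :=
      ConcreteCategory.congr_hom ((C X Y).iCycles_d (n + 1) n) z
    rw [C_d] at h
    exact (LinearMap.congr_fun (LinearMap.lTensor_comp X _ _) _).symm.trans h
  · obtain ⟨x, hx⟩ := LinearMap.lTensor_surjective (X : Type u) (pr_surjective (Kn (n + 1) Y)) w
    have hd : ((C X Y).d (n + 1) n).hom x = 0 := by
      rw [C_d]
      refine (LinearMap.congr_fun (LinearMap.lTensor_comp X _ _) x).trans ?_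
      show (inc (Kn n Y)).hom.lTensor X ((pr _).hom.lTensor X x) = 0
      erw [hx]
      exact hw
    let l : ModuleCat.of A A ⟶ (C X Y).X (n + 1) := ModuleCat.ofHom (LinearMap.toSpanSingleton A _ x)
    have hl : l ≫ (C X Y).d (n + 1) n = 0 := by
      refine ModuleCat.hom_ext (LinearMap.ext_ring ?_)
      show ((C X Y).d (n + 1) n).hom ((1 : A) • x) = 0
      rw [one_smul, hd]
    refine ⟨((C X Y).liftCycles l n (by simp) hl ≫ (C X Y).homologyπ (n + 1)) 1, ?_⟩
    show ((((C X Y).liftCycles l n (by simp) hl ≫ (C X Y).homologyπ (n + 1)) ≫ β X Y (n + 1))) 1 = w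
    rw [Category.assoc, β_π, HomologicalComplex.liftCycles_i_assoc]
    show (pr _).hom.lTensor X ((1 : A) • x) = w
    rw [one_smul]
    exact hx

/-- The short exact sequence of complexes `(K X → F X → X) ⊗ R Y`. -/
noncomputable def S (X Y : MC A) : ShortComplex (ChainComplex (MC A) ℕ) :=
  ShortComplex.mk ((NatTrans.mapHomologicalComplex ((tensoringLeft (MC A)).map (inc X)) _).app (Rc Y))
    ((NatTrans.mapHomologicalComplex ((tensoringLeft (MC A)).map (pr X)) _).app (Rc Y))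
    (by
      ext i : 1
      refine ModuleCat.hom_ext (TensorProduct.ext' fun x y => ?_)
      show (pr X) (inc X x) ⊗ₜ[A] y = 0
      rw [show (pr X) (inc X x) = 0 from x.2, zero_tmul])

lemma S_shortExact (X Y : MC A) : (S X Y).ShortExact := by
  refine HomologicalComplex.shortExact_of_degreewise_shortExact _ fun i => ?_
  haveI : Module.Flat A ((Rc Y).X i) := inferInstanceAs (Module.Flat A ((Kn i Y : Type u) →₀ A))
  refine { exact := ?_, mono_f := ?_, epi_g := ?_ }
  · rw [ShortComplex.moduleCat_exact_iff]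
    intro x hx
    exact ((rTensor_exact ((Rc Y).X i : Type u) (inc_pr_exact X) (pr_surjective X)) x).1 hx
  · exact (ModuleCat.mono_iff_injective _).2
      (Module.Flat.rTensor_preserves_injective_linearMap (M := (Rc Y).X i) _ (rel X).injective_subtype)
  · exact (ModuleCat.epi_iff_surjective _).2
      (LinearMap.rTensor_surjective ((Rc Y).X i : Type u) (pr_surjective X))

lemma middle_isZero (X Y : MC A) (p : ℕ) : IsZero ((C (Fo X) Y).homology (p + 1)) := by
  rw [← HomologicalComplex.exactAt_iff_isZero_homology,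
    HomologicalComplex.exactAt_iff' _ (p + 2) (p + 1) p (by simp) (by simp),
    ShortComplex.moduleCat_exact_iff_range_eq_ker]
  exact (LinearMap.exact_iff.1 (Module.Flat.lTensor_exact (Fo X : Type u) (Rc_exact Y p))).symm

/-- connecting map -/
noncomputable def δ (X Y : MC A) (j : ℕ) : (C X Y).homology (j + 1) ⟶ (C (Ko X) Y).homology j :=
  (S_shortExact X Y).δ (j + 1) j rfl

instance (X Y : MC A) (j : ℕ) : Mono (δ X Y j) :=
  ((S_shortExact X Y).homology_exact₃ (j + 1) j rfl).mono_g ((middle_isZero X Y j).eq_of_src _ _)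

instance (X Y : MC A) (j : ℕ) : Epi (δ X Y (j + 1)) :=
  ((S_shortExact X Y).homology_exact₁ (j + 2) (j + 1) rfl).epi_f ((middle_isZero X Y j).eq_of_tgt _ _)

lemma δ_natural {X X' Y Y' : MC A} (f : X ⟶ X') (g : Y ⟶ Y') (j : ℕ) :
    HomologicalComplex.homologyMap (CM f g) (j + 1) ≫ δ X' Y' j =
      δ X Y j ≫ HomologicalComplex.homologyMap (CM (Km f) g) j := by
  refine (HomologicalComplex.HomologySequence.δ_naturality
    (S₁ := S X Y) (S₂ := S X' Y') ⟨CM (Km f) g, CM (Fm f) g, CM f g, ?_, ?_⟩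
      (S_shortExact X Y) (S_shortExact X' Y') (j + 1) j rfl).symm
  · ext i : 1
    refine ModuleCat.hom_ext (TensorProduct.ext' fun x y => ?_)
    rfl
  · ext i : 1
    refine ModuleCat.hom_ext (TensorProduct.ext' fun x y => ?_)
    show (pr X') (Fm f x) ⊗ₜ[A] Fm (Knm i g) y = f (pr X x) ⊗ₜ[A] Fm (Knm i g) y
    rw [← ConcreteCategory.comp_apply, Fm_pr]
    rfl

/-- iterated connecting map -/
noncomputable def E : ∀ (n : ℕ) (X Y : MC A) (j i : ℕ), i = j + n →
    ((C X Y).homology i ⟶ (C (Kn n X) Y).homology j)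
  | 0, X, Y, j, i, h => eqToHom (by rw [h]; rfl)
  | n + 1, X, Y, j, i, h => E n X Y (j + 1) i (by omega) ≫ δ (Kn n X) Y j

lemma E_natural₀ {X X' Y Y' : MC A} (f : X ⟶ X') (g : Y ⟶ Y') (j i : ℕ) (h : i = j + 0) :
    HomologicalComplex.homologyMap (CM f g) i ≫ E 0 X' Y' j i h =
      E 0 X Y j i h ≫ HomologicalComplex.homologyMap (CM (Knm 0 f) g) j := by
  obtain rfl : i = j := h
  exact (Category.comp_id _).trans (Category.id_comp _).symm

lemma E_natural : ∀ (n : ℕ) {X X' Y Y' : MC A} (f : X ⟶ X') (g : Y ⟶ Y') (j i : ℕ) (h : i = j + n),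
    HomologicalComplex.homologyMap (CM f g) i ≫ E n X' Y' j i h =
      E n X Y j i h ≫ HomologicalComplex.homologyMap (CM (Knm n f) g) j
  | 0, _, _, _, _, f, g, j, i, h => E_natural₀ f g j i h
  | n + 1, X, X', Y, Y', f, g, j, i, h => by
    rw [E, E, ← Category.assoc, E_natural n f g (j + 1) i (by omega), Category.assoc, δ_natural,
      Category.assoc]
    rfl

lemma E_isIso : ∀ (n : ℕ) (X Y : MC A) (j i : ℕ) (h : i = j + 1 + n), IsIso (E n X Y (j + 1) i h)
  | 0, X, Y, j, i, h => by rw [E]; infer_instance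
  | n + 1, X, Y, j, i, h => by
    rw [E]
    haveI := E_isIso n X Y (j + 1) i (by omega)
    haveI : IsIso (δ (Kn n X) Y (j + 1)) := isIso_of_mono_of_epi _
    infer_instance

/-- `H_{n+1}(X ⊗ R Y) → Y ⊗ K^{n+1} X`. -/
noncomputable def ψ (X Y : MC A) (n : ℕ) : (C X Y).homology (n + 1) ⟶ ModuleCat.of A (Y ⊗[A] Kn (n + 1) X) :=
  E (n + 1) X Y 0 (n + 1) (by omega) ≫ β (Kn (n + 1) X) Y 0 ≫
    ModuleCat.ofHom (TensorProduct.comm A (Kn (n + 1) X) Y).toLinearMap

lemma ψ_natural {X X' Y Y' : MC A} (f : X ⟶ X') (g : Y ⟶ Y') (n : ℕ) :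
    HomologicalComplex.homologyMap (CM f g) (n + 1) ≫ ψ X' Y' n =
      ψ X Y n ≫ ModuleCat.ofHom (TensorProduct.map g.hom (Knm (n + 1) f).hom) := by
  rw [ψ, ψ, ← Category.assoc, E_natural, Category.assoc, reassoc_of% β_natural, Category.assoc,
    Category.assoc]
  congr 2
  refine ModuleCat.hom_ext (TensorProduct.ext' fun x y => ?_)
  rfl

lemma ψ_injective (X Y : MC A) (n : ℕ) : Function.Injective (ψ X Y n).hom := by
  haveI := E_isIso n X Y 0 (n + 1) (by omega)
  haveI : Mono (E (n + 1) X Y 0 (n + 1) (by omega)) := by rw [E]; infer_instance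
  exact (TensorProduct.comm A _ _).injective.comp
    ((β_injective _ Y 0).comp ((ModuleCat.mono_iff_injective _).1 inferInstance))

lemma S_f_eq (X Y : MC A) : CM (inc X) (𝟙 Y) = (S X Y).f := by
  ext i : 1
  refine ModuleCat.hom_ext ?_
  rw [CM_f]
  refine TensorProduct.ext' fun x y => ?_
  show (inc X) x ⊗ₜ[A] Fm (Knm i (𝟙 Y)) y = (inc X) x ⊗ₜ[A] y
  rw [Knm_id, Fm_id]
  rfl

lemma map_comm (X Y : MC A) (t : (Ko X : MC A) ⊗[A] Kn 0 Y) :
    (inc X).hom.lTensor Y (TensorProduct.comm A (Ko X) Y t) =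
      TensorProduct.comm A (Fo X) Y (TensorProduct.map (inc X).hom (Knm 0 (𝟙 Y)).hom t) := by
  induction t with
  | zero => simp
  | tmul a b => rfl
  | add a b ha hb => simp only [map_add]; exact congrArg₂ (· + ·) ha hb

lemma β_inc (X Y : MC A) (c : (C (Ko X) Y).homology 0) :
    (inc X).hom.lTensor Y (TensorProduct.comm A (Ko X) Y ((β (Ko X) Y 0).hom c)) =
      TensorProduct.comm A (Fo X) Y ((β (Fo X) Y 0).hom
        ((HomologicalComplex.homologyMap (S X Y).f 0).hom c)) := by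
  have h1 := ConcreteCategory.congr_hom (β_natural (inc X) (𝟙 Y) 0) c
  rw [S_f_eq] at h1
  exact (map_comm X Y _).trans (congrArg (TensorProduct.comm A (Fo X) Y) h1).symm

lemma ψ_range (X Y : MC A) (n : ℕ) :
    LinearMap.range (ψ X Y n).hom = LinearMap.ker ((inc (Kn n X)).hom.lTensor Y) := by
  haveI := E_isIso n X Y 0 (n + 1) (by omega)
  have hs : Function.Surjective (E n X Y 1 (n + 1) (by omega)).hom :=
    (ModuleCat.epi_iff_surjective _).1 inferInstance
  have hn := β_inc (Kn n X) Y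
  refine le_antisymm ?_ fun w hw => ?_
  · rintro _ ⟨c, rfl⟩
    rw [LinearMap.mem_ker]
    refine (hn _).trans ?_
    have := ConcreteCategory.congr_hom ((S_shortExact (Kn n X) Y).δ_comp 1 0 rfl)
      ((E n X Y 1 (n + 1) (by omega)).hom c)
    refine (congrArg (fun t => TensorProduct.comm A _ _ ((β (Fo (Kn n X)) Y 0).hom t)) this).trans ?_
    simp
  · obtain ⟨c, hc⟩ := β_zero_surjective (Kn (n + 1) X) Y ((TensorProduct.comm A _ _).symm w)
    have hc0 : (HomologicalComplex.homologyMap (S (Kn n X) Y).f 0).hom c = 0 := by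
      apply β_injective (Fo (Kn n X)) Y 0
      apply (TensorProduct.comm A _ _).injective
      refine (hn c).symm.trans ?_
      rw [map_zero]
      refine Eq.trans ?_ (map_zero _).symm
      refine (congrArg (fun t => (inc (Kn n X)).hom.lTensor Y (TensorProduct.comm A _ _ t)) hc).trans ?_
      refine (congrArg ((inc (Kn n X)).hom.lTensor Y) (LinearEquiv.apply_symm_apply _ _)).trans ?_
      exact hw
    obtain ⟨d, hd⟩ := (ShortComplex.moduleCat_exact_iff _).1
      ((S_shortExact (Kn n X) Y).homology_exact₁ 1 0 rfl) c hc0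
    obtain ⟨e, rfl⟩ := hs d
    refine ⟨e, ?_⟩
    show TensorProduct.comm A _ _ ((β (Kn (n + 1) X) Y 0).hom _) = w
    refine (congrArg _ ((congrArg (β (Kn (n + 1) X) Y 0).hom hd).trans hc)).trans ?_
    exact LinearEquiv.apply_symm_apply _ _

/-- The symmetry in positive degree. -/
noncomputable def flipSucc (X Y : MC A) (n : ℕ) : (C X Y).homology (n + 1) ≅ (C Y X).homology (n + 1) :=
  ((LinearEquiv.ofInjective _ (β_injective X Y (n + 1))).trans
    ((LinearEquiv.ofEq _ _ ((β_range X Y n).trans (ψ_range Y X n).symm)).trans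
      (LinearEquiv.ofInjective _ (ψ_injective Y X n)).symm)).toModuleIso

lemma flipSucc_ψ (X Y : MC A) (n : ℕ) : (flipSucc X Y n).hom ≫ ψ Y X n = β X Y (n + 1) := by
  refine ModuleCat.hom_ext (LinearMap.ext fun x => ?_)
  exact LinearEquiv.ofInjective_symm_apply (h := ψ_injective Y X n) _ _

/-- The symmetry in degree zero. -/
noncomputable def flipZero (X Y : MC A) : (C X Y).homology 0 ≅ (C Y X).homology 0 :=
  ((LinearEquiv.ofBijective _ ⟨β_injective X Y 0, β_zero_surjective X Y⟩).trans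
    ((TensorProduct.comm A X Y).trans
      (LinearEquiv.ofBijective _ ⟨β_injective Y X 0, β_zero_surjective Y X⟩).symm)).toModuleIso

lemma flipZero_β (X Y : MC A) :
    (flipZero X Y).hom ≫ β Y X 0 = β X Y 0 ≫ ModuleCat.ofHom (TensorProduct.comm A X Y).toLinearMap := by
  refine ModuleCat.hom_ext (LinearMap.ext fun x => ?_)
  exact (LinearEquiv.ofBijective (β Y X 0).hom ⟨β_injective Y X 0, β_zero_surjective Y X⟩).apply_symm_apply _

noncomputable def flipH : ∀ (n : ℕ) (X Y : MC A), (C X Y).homology n ≅ (C Y X).homology n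
  | 0, X, Y => flipZero X Y
  | n + 1, X, Y => flipSucc X Y n

lemma flipH_natural : ∀ (n : ℕ) {X X' Y Y' : MC A} (f : X ⟶ X') (g : Y ⟶ Y'),
    HomologicalComplex.homologyMap (CM f g) n ≫ (flipH n X' Y').hom =
      (flipH n X Y).hom ≫ HomologicalComplex.homologyMap (CM g f) n
  | 0, X, X', Y, Y', f, g => by
    haveI : Mono (β Y' X' 0) := (ModuleCat.mono_iff_injective _).2 (β_injective _ _ _)
    rw [← cancel_mono (β Y' X' 0), Category.assoc, Category.assoc, flipH, flipH, flipZero_β,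
      reassoc_of% β_natural, β_natural, reassoc_of% flipZero_β]
    congr 1
    refine ModuleCat.hom_ext (TensorProduct.ext' fun x y => ?_)
    rfl
  | n + 1, X, X', Y, Y', f, g => by
    haveI : Mono (ψ Y' X' n) := (ModuleCat.mono_iff_injective _).2 (ψ_injective _ _ _)
    rw [← cancel_mono (ψ Y' X' n), Category.assoc, Category.assoc, flipH, flipH, flipSucc_ψ,
      ψ_natural, reassoc_of% flipSucc_ψ, β_natural]

/-- `Tor_n(X, Y)` computed by the standard resolution of `Y`. -/
noncomputable def torIso (n : ℕ) (X Y : MC A) :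
    ((Tor (MC A) n).obj X).obj Y ≅ (C X Y).homology n :=
  (res Y).isoLeftDerivedObj ((tensoringLeft (MC A)).obj X) n

lemma torIso_natural_right (n : ℕ) (X : MC A) {Y Y' : MC A} (g : Y ⟶ Y') :
    ((Tor (MC A) n).obj X).map g ≫ (torIso n X Y').hom =
      (torIso n X Y).hom ≫ HomologicalComplex.homologyMap (CM (𝟙 X) g) n := by
  refine (ProjectiveResolution.isoLeftDerivedObj_hom_naturality g (res Y) (res Y') (Rm g) ?_ _ n).trans ?_
  · rw [show (res Y').π.f 0 = pr Y' from ChainComplex.toSingle₀Equiv_symm_apply_f_zero _ _,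
      show (res Y).π.f 0 = pr Y from ChainComplex.toSingle₀Equiv_symm_apply_f_zero _ _]
    exact Fm_pr g
  · refine congrArg (fun φ => (torIso n X Y).hom ≫ HomologicalComplex.homologyMap φ n)
      (?_ : (((tensoringLeft (MC A)).obj X).mapHomologicalComplex (ComplexShape.down ℕ)).map (Rm g) = CM (𝟙 X) g)
    ext i : 1
    refine ModuleCat.hom_ext ?_
    rw [CM_f]
    refine TensorProduct.ext' fun x y => ?_
    rfl

lemma torIso_natural_left (n : ℕ) {X X' : MC A} (f : X ⟶ X') (Y : MC A) :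
    ((Tor (MC A) n).map f).app Y ≫ (torIso n X' Y).hom =
      (torIso n X Y).hom ≫ HomologicalComplex.homologyMap (CM f (𝟙 Y)) n := by
  show (NatTrans.leftDerived ((tensoringLeft (MC A)).map f) n).app Y ≫ _ = _
  rw [ProjectiveResolution.leftDerived_app_eq _ (res Y) n, Category.assoc, Category.assoc]
  show (torIso n X Y).hom ≫ _ ≫ (torIso n X' Y).inv ≫ (torIso n X' Y).hom = _
  rw [Iso.inv_hom_id, Category.comp_id]
  congr 2
  ext i : 1
  refine ModuleCat.hom_ext ?_
  rw [CM_f]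
  refine TensorProduct.ext' fun x y => ?_
  show f x ⊗ₜ[A] y = f x ⊗ₜ[A] Fm (Knm i (𝟙 Y)) y
  rw [Knm_id, Fm_id]
  rfl

theorem tor_flip (A : Type u) [CommRing A] (n : ℕ) : Nonempty (Tor (MC A) n ≅ (Tor (MC A) n).flip) := by
  refine ⟨NatIso.ofComponents (fun X => NatIso.ofComponents
    (fun Y => torIso n X Y ≪≫ flipH n X Y ≪≫ (torIso n Y X).symm) ?_) ?_⟩
  · intro Y Y' g
    simp only [Iso.trans_hom, Iso.symm_hom, reassoc_of% torIso_natural_right n X g,
      reassoc_of% flipH_natural n (𝟙 X) g, Category.assoc]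
    congr 2
    rw [← cancel_mono (torIso n Y' X).hom, Category.assoc, Iso.inv_hom_id, Category.comp_id,
      Category.assoc]
    show _ = (torIso n Y X).inv ≫ ((Tor (MC A) n).map g).app X ≫ _
    rw [torIso_natural_left, Iso.inv_hom_id_assoc]
  · intro X X' f
    ext Y : 2
    show ((Tor (MC A) n).map f).app Y ≫ (torIso n X' Y).hom ≫ (flipH n X' Y).hom ≫ (torIso n Y X').inv =
      ((torIso n X Y).hom ≫ (flipH n X Y).hom ≫ (torIso n Y X).inv) ≫ ((Tor (MC A) n).obj Y).map f
    rw [reassoc_of% torIso_natural_left n f Y, reassoc_of% flipH_natural n f (𝟙 Y), Category.assoc,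
      Category.assoc]
    congr 2
    rw [← cancel_mono (torIso n Y X').hom, Category.assoc, Iso.inv_hom_id, Category.comp_id,
      Category.assoc, torIso_natural_right, Iso.inv_hom_id_assoc]

end Groth.Agent.TorFlip
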