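import Groth.Agent.FlatMor12.TwistAmpleOpen
import Groth.Agent.VarietyLib.Dual
import Groth.Prelude.Def_ProjUP

/-!
# Twists by multiples of the degrees of the generators
-/

set_option autoImplicit false
set_option backward.isDefEq.respectTransparency.types false
set_option linter.all false

universe u

open CategoryTheory CategoryTheory.Limits AlgebraicGeometry Opposite TopologicalSpace
open Groth.Agent.Coherent Groth.Agent.PicLib Groth.Agent.AmpleLib Groth.Agent.TwistLib Groth.Agent.FlatMor12.TwistAmpleOpen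
open scoped AlgebraicGeometry

namespace Groth.Agent.EtLib9.TwistLcm

variable {R A : Type u} [CommRing R] [CommRing A] [Algebra R A] (𝒜 : ℕ → Submodule R A) [GradedAlgebra 𝒜]
  {s : ℕ} (f : Fin s → A) (deg : Fin s → ℕ) (hdeg : ∀ i, 0 < deg i) (hf : ∀ i, f i ∈ 𝒜 (deg i))
  (hgen : Algebra.adjoin R (Set.range f) = ⊤)

include hdeg hf hgen in
theorem iSup_basicOpen : ⨆ i, Proj.basicOpen 𝒜 (f i) = ⊤ := by
  refine Proj.iSup_basicOpen_eq_top' 𝒜 f (fun i => ⟨_, hf i⟩) (top_le_iff.mp fun x hxtop => ?_)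
  have hx : x ∈ Algebra.adjoin R (Set.range f) := by rw [hgen]; trivial
  clear * - hx
  induction hx using Algebra.adjoin_induction with
  | mem y hy => exact Algebra.subset_adjoin hy
  | algebraMap r =>
    have h0 : algebraMap R A r ∈ 𝒜 0 := SetLike.algebraMap_mem_graded 𝒜 r
    exact Subalgebra.algebraMap_mem (Algebra.adjoin (𝒜 0) (Set.range f)) ⟨algebraMap R A r, h0⟩
  | add y z _ _ hy hz => exact add_mem hy hz
  | mul y z _ _ hy hz => exact mul_mem hy hz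

include hdeg hf hgen in
/-- Every point lies on a chart of degree a positive multiple of the lcm. -/
theorem exists_pow_mem {m : ℕ} (hm : ∀ i, deg i ∣ m) (x : Proj 𝒜) :
    ∃ g ∈ 𝒜 m, x ∈ Proj.basicOpen 𝒜 g := by
  obtain ⟨i, hi⟩ := Opens.mem_iSup.1 ((iSup_basicOpen 𝒜 f deg hdeg hf hgen).ge (show x ∈ (⊤ : (Proj 𝒜).Opens) from trivial))
  obtain ⟨c, hc⟩ := hm i
  refine ⟨f i ^ c, ?_, H8Constr.pow_basicOpen (f i) c hi⟩
  rw [hc, mul_comm]
  simpa using SetLike.pow_mem_graded c (hf i)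

include hdeg hf hgen in
theorem chartOpen_eq_top {m : ℕ} (hm : ∀ i, deg i ∣ m) : chartOpen (𝒜 := 𝒜) m = ⊤ := top_le_iff.mp fun x _ => by
  obtain ⟨g, hg, hx⟩ := exists_pow_mem 𝒜 f deg hdeg hf hgen hm x
  exact Opens.mem_iSup.2 ⟨⟨g, hg⟩, hx⟩

include hdeg hf hgen in
theorem isInvertible_twist {m : ℕ} (hm : ∀ i, deg i ∣ m) : PicF.IsInvertible (Twist.twist 𝒜 (m : ℤ)) := by
  have key : ∀ N : ℤ, (1 : ℤ) * m = N → PicF.IsInvertible (Twist.twist 𝒜 N) := by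
    rintro N rfl
    refine isInvertible_of_gens fun x => ?_
    obtain ⟨g, hg, hx⟩ := exists_pow_mem 𝒜 f deg hdeg hf hgen hm x
    exact ⟨_, hx, _, isGen_tau hg 1⟩
  exact key _ (one_mul _)

include hdeg hf hgen in
/-- The locus of the section of a homogeneous element. -/
theorem glocus_globalOf {m : ℕ} (hm : ∀ i, deg i ∣ m) {g : A} (hg : g ∈ 𝒜 m) :
    glocus (Twist.twist 𝒜 (m : ℤ)) (show Γ(Twist.twist 𝒜 (m : ℤ), ⊤) from Twist.globalOf 𝒜 ⟨g, hg⟩) =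
      Proj.basicOpen 𝒜 g := by
  have key : ∀ (k : ℕ) (hk : k = m) (hg' : g ∈ 𝒜 k),
      glocus (Twist.twist 𝒜 (k : ℤ)) (show Γ(Twist.twist 𝒜 (k : ℤ), ⊤) from Twist.globalOf 𝒜 ⟨g, hg'⟩) ⊓ chartOpen m =
        Proj.basicOpen 𝒜 g ⊓ chartOpen m →
      glocus (Twist.twist 𝒜 (m : ℤ)) (show Γ(Twist.twist 𝒜 (m : ℤ), ⊤) from Twist.globalOf 𝒜 ⟨g, hg⟩) =
        Proj.basicOpen 𝒜 g := by
    rintro k rfl hg' h
    rwa [chartOpen_eq_top 𝒜 f deg hdeg hf hgen hm, inf_top_eq, inf_top_eq] at h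
  exact key (1 * m) (one_mul m) (by rwa [one_mul]) (glocus_globalOf_inf (d := m) (n := 1) (by rwa [one_mul]))

include hdeg hf hgen in
theorem isAmple_twist {m : ℕ} (hm : ∀ i, deg i ∣ m) (hm0 : 0 < m) : CohB1.IsAmple (Twist.twist 𝒜 (m : ℤ)) := by
  haveI : CompactSpace (Proj 𝒜) := by
    refine ⟨?_⟩
    have h := congrArg (fun U : (Proj 𝒜).Opens => (U : Set (Proj 𝒜))) (iSup_basicOpen 𝒜 f deg hdeg hf hgen)
    simp only [Opens.coe_iSup, Opens.coe_top] at h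
    rw [← h]
    exact isCompact_iUnion fun i => (Proj.isAffineOpen_basicOpen 𝒜 (f i) (hf i) (hdeg i)).isCompact
  refine isAmple_iff_affGlocus.2 ⟨isInvertible_twist 𝒜 f deg hdeg hf hgen hm, inferInstance, fun x => ?_⟩
  obtain ⟨g, hg, hx⟩ := exists_pow_mem 𝒜 f deg hdeg hf hgen hm x
  let e : Twist.twist 𝒜 (m : ℤ) ≅ CohB1.tensorPow (Twist.twist 𝒜 (m : ℤ)) 1 := (unitTensorIso _).symm
  refine ⟨1, one_pos, e.hom.app ⊤ (show Γ(Twist.twist 𝒜 (m : ℤ), ⊤) from Twist.globalOf 𝒜 ⟨g, hg⟩), ?_⟩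
  have hloc : glocus _ (e.hom.app ⊤ (show Γ(Twist.twist 𝒜 (m : ℤ), ⊤) from Twist.globalOf 𝒜 ⟨g, hg⟩)) =
      Proj.basicOpen 𝒜 g := by
    erw [glocus_map_iso]
    exact glocus_globalOf 𝒜 f deg hdeg hf hgen hm hg
  rw [hloc]
  exact ⟨hx, le_top, Proj.isAffineOpen_basicOpen 𝒜 g hg hm0⟩

include hdeg hf hgen in
theorem generatedBy_twist {m : ℕ} (hm : ∀ i, deg i ∣ m) :
    ProjUP.GeneratedBy (Twist.twist 𝒜 (m : ℤ))
      (fun b : 𝒜 m => (Twist.globalOf 𝒜 b : ProjUP.Γm (Twist.twist 𝒜 (m : ℤ)))) := by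
  intro x
  obtain ⟨g, hg, hx⟩ := exists_pow_mem 𝒜 f deg hdeg hf hgen hm x
  let a : Γ(Twist.twist 𝒜 (m : ℤ), ⊤) := Twist.globalOf 𝒜 ⟨g, hg⟩
  have hxa : x ∈ glocus _ a := (glocus_globalOf 𝒜 f deg hdeg hf hgen hm hg).ge hx
  have hgen' := isGen_glocus a
  obtain hb := (VarietyLib.gen_germ_bijective hgen' hxa).2
  have hgerm : (Twist.twist 𝒜 (m : ℤ)).presheaf.germ (glocus _ a) x hxa (resM _ le_top a) =
      (Twist.twist 𝒜 (m : ℤ)).presheaf.germ ⊤ x trivial a :=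
    TopCat.Presheaf.germ_res_apply _ _ _ _ _
  refine eq_top_iff.2 fun v _ => ?_
  obtain ⟨r, hr⟩ := hb v
  rw [← hr]
  refine Submodule.smul_mem _ r (Submodule.subset_span ⟨⟨g, hg⟩, ?_⟩)
  exact hgerm.symm

include hdeg hf hgen in
theorem nonempty_tensor_twist_iso {m : ℕ} (hm : ∀ i, deg i ∣ m) (a n : ℤ) :
    Nonempty (CohB1.tensorMod (Twist.twist 𝒜 (a * m)) (Twist.twist 𝒜 n) ≅ Twist.twist 𝒜 (a * m + n)) := by
  have hcov : ∀ x : ProjectiveSpectrum 𝒜, ∃ g ∈ 𝒜 m, g ∉ x.asHomogeneousIdeal.toIdeal := fun x =>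
    exists_pow_mem 𝒜 f deg hdeg hf hgen hm x
  haveI := isIso_desc_mulBilin (𝒜 := 𝒜) 𝒜 (p := n) (q := a * m) (r := a * m + n) (add_comm _ _) rfl hcov
  exact ⟨tensorComm _ _ ≪≫ tensorIso (twistIsoTilde 𝒜 n) (Iso.refl _) ≪≫
    asIso (mulBilin (𝒜 := 𝒜) 𝒜 (p := n) (q := a * m) (r := a * m + n) (add_comm _ _)).desc ≪≫ (twistIsoTilde 𝒜 _).symm⟩

end Groth.Agent.EtLib9.TwistLcm
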