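import Groth.Agent.EtLib9.TwistLcm
import Groth.Agent.MorProj.VeryAmple
import Groth.Agent.UPLib.Basic

/-!
# Closed immersions of `Proj` into projective space by homogeneous elements of one degree
-/

set_option autoImplicit false
set_option backward.isDefEq.respectTransparency.types false
set_option linter.all false

universe u

open CategoryTheory CategoryTheory.Limits AlgebraicGeometry Opposite TopologicalSpace
open Groth.Agent.Coherent Groth.Agent.PicLib Groth.Agent.AmpleLib Groth.Agent.TwistLib Groth.Agent.FlatMor12.TwistAmpleOpen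
open HomogeneousLocalization (Away)
open scoped AlgebraicGeometry

namespace Groth.Agent.EtLib9.TwistVeryAmple

variable {R A : Type u} [CommRing R] [CommRing A] [Algebra R A] {𝒜 : ℕ → Submodule R A} [GradedAlgebra 𝒜]
  {s : ℕ} (f : Fin s → A) {deg : Fin s → ℕ}

/-- A power as a member of the powers. -/
abbrev pw (G : A) (k : ℕ) : Submonoid.powers G := ⟨G ^ k, k, rfl⟩

/-- The element as a member of its powers. -/
abbrev pw1 (G : A) : Submonoid.powers G := ⟨G, Submonoid.mem_powers G⟩

/-- A monomial in the generators. -/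
def monom (e : Fin s → ℕ) : A := ∏ i, f i ^ e i

/-- The degree of a monomial. -/
def wdeg (deg : Fin s → ℕ) (e : Fin s → ℕ) : ℕ := ∑ i, e i * deg i

theorem monom_add (e e' : Fin s → ℕ) : monom f (e + e') = monom f e * monom f e' := by
  simp [monom, pow_add, Finset.prod_mul_distrib]

theorem monom_single (i : Fin s) (c : ℕ) : monom f (Pi.single i c) = f i ^ c := by
  rw [monom, Finset.prod_eq_single i (fun j _ hj => by simp [hj]) (fun h => absurd (Finset.mem_univ i) h)]
  simp

theorem monom_zero : monom f (0 : Fin s → ℕ) = 1 := by simp [monom]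

theorem wdeg_add (e e' : Fin s → ℕ) : wdeg deg (e + e') = wdeg deg e + wdeg deg e' := by
  simp [wdeg, add_mul, Finset.sum_add_distrib]

theorem wdeg_single (i : Fin s) (c : ℕ) : wdeg deg (Pi.single i c) = c * deg i := by
  rw [wdeg, Finset.sum_eq_single i (fun j _ hj => by simp [hj]) (fun h => absurd (Finset.mem_univ i) h)]
  simp

theorem wdeg_zero : wdeg deg (0 : Fin s → ℕ) = 0 := by simp [wdeg]

variable (hdeg : ∀ i, 0 < deg i) (hf : ∀ i, f i ∈ 𝒜 (deg i)) (hgen : Algebra.adjoin R (Set.range f) = ⊤)

include hf in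
theorem monom_mem (e : Fin s → ℕ) : monom f e ∈ 𝒜 (wdeg deg e) := by
  refine SetLike.prod_mem_graded (A := 𝒜) (fun i => e i * deg i) (fun i => f i ^ e i) fun i _ => ?_
  simpa using SetLike.pow_mem_graded (e i) (hf i)

include hf hgen in
theorem mem_span_monom {m : ℕ} {x : A} (hx : x ∈ 𝒜 m) :
    x ∈ Submodule.span R {y : A | ∃ e, wdeg deg e = m ∧ monom f e = y} := by
  classical
  have hall : x ∈ Submodule.span R (Submonoid.closure (Set.range f) : Set A) := by
    rw [← Algebra.adjoin_eq_span, hgen]
    trivial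
  suffices h : GradedAlgebra.proj 𝒜 m x ∈ Submodule.span R {y : A | ∃ e, wdeg deg e = m ∧ monom f e = y} by
    rwa [GradedAlgebra.proj_apply, DirectSum.decompose_of_mem_same 𝒜 hx] at h
  clear hx
  induction hall using Submodule.span_induction with
  | mem y hy =>
    obtain ⟨e, rfl⟩ : ∃ e, monom f e = y := by
      induction hy using Submonoid.closure_induction with
      | mem z hz => obtain ⟨i, rfl⟩ := hz; exact ⟨Pi.single i 1, by rw [monom_single, pow_one]⟩
      | one => exact ⟨0, monom_zero f⟩
      | mul z w _ _ hz hw =>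
        obtain ⟨e, rfl⟩ := hz
        obtain ⟨e', rfl⟩ := hw
        exact ⟨e + e', monom_add f e e'⟩
    rw [GradedAlgebra.proj_apply]
    by_cases h : wdeg deg e = m
    · rw [DirectSum.decompose_of_mem_same 𝒜 (h ▸ monom_mem f hf e)]
      exact Submodule.subset_span ⟨e, h, rfl⟩
    · rw [DirectSum.decompose_of_mem_ne 𝒜 (monom_mem f hf e) h]
      exact zero_mem _
  | zero => simp
  | add y z _ _ hy hz => rw [map_add]; exact add_mem hy hz
  | smul r y _ hy => rw [map_smul]; exact Submodule.smul_mem _ r hy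

include hdeg hf hgen in
theorem algebraMap_zero_surjective : Function.Surjective (algebraMap R (𝒜 0)) := by
  intro x
  have h := mem_span_monom f hf hgen x.2
  have hle : {y : A | ∃ e, wdeg deg e = 0 ∧ monom f e = y} ⊆ {1} := by
    rintro y ⟨e, he, rfl⟩
    have : e = 0 := funext fun i => by
      have := (Finset.sum_eq_zero_iff.1 he) i (Finset.mem_univ i)
      rcases Nat.mul_eq_zero.1 this with h | h
      · exact h
      · exact absurd h (hdeg i).ne'
    rw [this, monom_zero]; rfl
  obtain ⟨r, hr⟩ := Submodule.mem_span_singleton.1 (Submodule.span_mono hle h)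
  exact ⟨r, Subtype.ext ((Algebra.algebraMap_eq_smul_one r).trans hr)⟩

variable (R) in
/-- The fractions of degree `n` numerators by `G`, with the constants, in the localisation. -/
noncomputable def fracRing (deg : Fin s → ℕ) (n : ℕ) (G : A) : Subring (Localization.Away G) :=
  Subring.closure (Set.range (fun r : R => algebraMap A (Localization.Away G) (algebraMap R A r)) ∪
    {z | ∃ e, wdeg deg e = n ∧ z = Localization.mk (monom f e) (pw1 G)})

theorem constant_mem (n : ℕ) (G : A) (r : R) :
    algebraMap A (Localization.Away G) (algebraMap R A r) ∈ fracRing R f deg n G :=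
  Subring.subset_closure (Or.inl ⟨r, rfl⟩)

theorem monom_div_mem {n : ℕ} (G : A) {e : Fin s → ℕ} (he : wdeg deg e = n) :
    Localization.mk (monom f e) (pw1 G) ∈ fracRing R f deg n G :=
  Subring.subset_closure (Or.inr ⟨e, he, rfl⟩)

include hf hgen in
theorem span_mem {n k : ℕ} (G : A)
    (hk : ∀ e, wdeg deg e = k * n → Localization.mk (monom f e) (pw G k) ∈ fracRing R f deg n G)
    {x : A} (hx : x ∈ 𝒜 (k * n)) : Localization.mk x (pw G k) ∈ fracRing R f deg n G := by
  have h := mem_span_monom f hf hgen hx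
  clear hx
  induction h using Submodule.span_induction with
  | mem y hy => obtain ⟨e, he, rfl⟩ := hy; exact hk e he
  | zero => rw [Localization.mk_zero]; exact zero_mem _
  | add y z _ _ hy hz => rw [← Localization.add_mk_self]; exact add_mem hy hz
  | smul r y _ hy =>
    have : Localization.mk (r • y) (pw G k) =
        algebraMap A (Localization.Away G) (algebraMap R A r) * Localization.mk y (pw G k) := by
      rw [← Localization.mk_one_eq_algebraMap, Localization.mk_mul, one_mul, Algebra.smul_def]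
    rw [this]
    exact mul_mem (constant_mem f n G r) hy

include hdeg in
/-- All monomials are products when the remainder of every monomial fits into one block. -/
theorem monom_mem_of_lcm {l a : ℕ} (hl : ∀ i, deg i ∣ l) (hl0 : 0 < l) (has : s ≤ a + 1) (G : A) :
    ∀ (k : ℕ) (e : Fin s → ℕ), wdeg deg e = k * (a * l) →
      Localization.mk (monom f e) (pw G k) ∈ fracRing R f deg (a * l) G := by
  intro k
  induction k with
  | zero =>
    intro e he
    have : e = 0 := funext fun i => by
      rw [zero_mul] at he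
      have := (Finset.sum_eq_zero_iff.1 he) i (Finset.mem_univ i)
      rcases Nat.mul_eq_zero.1 this with h | h
      · exact h
      · exact absurd h (hdeg i).ne'
    subst this
    rw [monom_zero]
    have : Localization.mk (1 : A) (pw G 0) = 1 := by
      rw [← Localization.mk_one]; congr 1; exact Subtype.ext (pow_zero G)
    rw [this]
    exact one_mem _
  | succ k ih =>
    intro e he
    rcases Nat.eq_zero_or_pos k with rfl | hk
    · rw [zero_add, one_mul] at he
      convert monom_div_mem f (n := a * l) G he using 3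
      simp
    · -- split off one block
      have hl' := hl
      choose c hc using hl'
      have hc0 : ∀ i, 0 < c i := fun i => Nat.pos_of_ne_zero fun h => by
        have := hc i; rw [h, mul_zero] at this; omega
      let q : Fin s → ℕ := fun i => e i / c i
      let r : Fin s → ℕ := fun i => e i % c i
      have her : e = r + fun i => q i * c i := funext fun i => by
        simp only [Pi.add_apply, r, q]
        rw [Nat.mul_comm (e i / c i)]; exact (Nat.mod_add_div _ _).symm
      have hblk : ∀ p : Fin s → ℕ, wdeg deg (fun i => p i * c i) = (∑ i, p i) * l := fun p => by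
        rw [wdeg, Finset.sum_mul]
        refine Finset.sum_congr rfl fun i _ => ?_
        rw [hc i]; ring
      have hsum : wdeg deg r + (∑ i, q i) * l = (k + 1) * a * l := by
        rw [← hblk, ← wdeg_add, ← her, he]; ring
      obtain ⟨cc, hcc⟩ : l ∣ wdeg deg r := (Nat.dvd_add_left (Dvd.intro_left _ rfl)).1 (hsum ▸ Dvd.intro_left _ rfl)
      have hcs : cc ≤ a := by
        by_contra hlt
        have h1 : wdeg deg r + s ≤ s * l := by
          calc wdeg deg r + s = ∑ i : Fin s, (r i * deg i + 1) := by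
                simp [wdeg, Finset.sum_add_distrib]
            _ ≤ ∑ i : Fin s, l := Finset.sum_le_sum fun i _ => by
                have : r i < c i := Nat.mod_lt _ (hc0 i)
                calc r i * deg i + 1 ≤ r i * deg i + deg i := by have := hdeg i; omega
                  _ = (r i + 1) * deg i := by ring
                  _ ≤ c i * deg i := Nat.mul_le_mul_right _ this
                  _ = l := by rw [hc i]; ring
            _ = s * l := by simp
        have h2 : s ≤ cc := by omega
        have h3 : s * l ≤ cc * l := Nat.mul_le_mul_right _ h2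
        rcases Nat.eq_zero_or_pos s with hs | hs
        · subst hs
          simp [wdeg] at hcc
          rcases hcc with h | h <;> omega
        · rw [hcc, mul_comm l cc] at h1; omega
      have hq : cc + ∑ i, q i = (k + 1) * a :=
        Nat.eq_of_mul_eq_mul_right hl0 (by rw [add_mul, ← hsum, hcc, mul_comm cc l])
      have hex : ∀ t, t ≤ ∑ i, q i → ∃ p : Fin s → ℕ, p ≤ q ∧ ∑ i, p i = t := by
        intro t
        induction t with
        | zero => exact fun _ => ⟨0, fun i => Nat.zero_le _, by simp⟩
        | succ t iht =>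
          intro ht
          obtain ⟨p, hp, hpt⟩ := iht (by omega)
          obtain ⟨i, hi⟩ : ∃ i, p i < q i := by
            by_contra hne
            simp only [not_exists, not_lt] at hne
            have : ∑ i, q i ≤ ∑ i, p i := Finset.sum_le_sum fun i _ => hne i
            omega
          refine ⟨p + Pi.single i 1, fun j => ?_, ?_⟩
          · by_cases hj : j = i
            · subst hj; simp; omega
            · simp [hj]; exact hp j
          · simp [Finset.sum_add_distrib, hpt]
      have hle : a - cc ≤ ∑ i, q i := by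
        have : a ≤ (k + 1) * a := Nat.le_mul_of_pos_left a (by omega)
        omega
      obtain ⟨p, hp, hpt⟩ := hex (a - cc) hle
      let e₁ : Fin s → ℕ := r + fun i => p i * c i
      let e₂ : Fin s → ℕ := fun i => (q i - p i) * c i
      have he12 : e = e₁ + e₂ := funext fun i => by
        have h := congrFun her i
        simp only [Pi.add_apply, e₁, e₂] at h ⊢
        rw [h, add_assoc, ← add_mul, Nat.add_sub_cancel' (hp i)]
      have hw₁ : wdeg deg e₁ = a * l := by
        rw [wdeg_add, hblk, hpt, hcc, mul_comm l cc, ← add_mul, Nat.add_sub_cancel' hcs]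
      have hw₂ : wdeg deg e₂ = k * (a * l) := by
        have := he
        rw [he12, wdeg_add, hw₁, add_mul, one_mul] at this
        omega
      have : Localization.mk (monom f e) (pw G (k + 1)) =
          Localization.mk (monom f e₁) (pw1 G) * Localization.mk (monom f e₂) (pw G k) := by
        rw [Localization.mk_mul, ← monom_add, ← he12]
        congr 1
        exact Subtype.ext (pow_succ' G k)
      rw [this]
      exact mul_mem (monom_div_mem f G hw₁) (ih e₂ hw₂)

include hdeg in
/-- All monomials are products after inserting powers of a generator of degree one. -/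
theorem monom_mem_of_degOne {n : ℕ} (hn : ∀ i, deg i ≤ n) (j₀ : Fin s) (hj₀ : deg j₀ = 1) :
    ∀ (k : ℕ) (e : Fin s → ℕ), wdeg deg e = k * n →
      Localization.mk (monom f e) (pw (f j₀ ^ n) k) ∈ fracRing R f deg n (f j₀ ^ n) := by
  suffices key : ∀ (N : ℕ) (e : Fin s → ℕ) (k j : ℕ), ∑ i, e i = N → wdeg deg e + j = k * n →
      Localization.mk (monom f e * f j₀ ^ j) (pw (f j₀ ^ n) k) ∈ fracRing R f deg n (f j₀ ^ n) by
    intro k e he
    simpa using key _ e k 0 rfl (by simpa using he)
  intro N
  induction N with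
  | zero =>
    intro e k j hN he
    have : e = 0 := funext fun i => (Finset.sum_eq_zero_iff.1 hN) i (Finset.mem_univ i)
    subst this
    rw [wdeg_zero, zero_add] at he
    subst he
    have : Localization.mk (monom f (0 : Fin s → ℕ) * f j₀ ^ (k * n))
        (pw (f j₀ ^ n) k) = 1 := by
      rw [monom_zero, one_mul, mul_comm k n, pow_mul]
      exact Localization.mk_self (pw (f j₀ ^ n) k)
    rw [this]
    exact one_mem _
  | succ N ih =>
    intro e k j hN he
    obtain ⟨i, hi⟩ : ∃ i, 0 < e i := by
      by_contra hne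
      simp only [not_exists, not_lt, Nat.le_zero] at hne
      simp [hne] at hN
    let e₀ : Fin s → ℕ := fun t => if t = i then e t - 1 else e t
    have hee : e = Pi.single i 1 + e₀ := funext fun t => by
      by_cases ht : t = i
      · subst ht; simp [e₀]; omega
      · simp [e₀, ht]
    have hN₀ : ∑ t, e₀ t = N := by
      rw [hee] at hN; simp [Finset.sum_add_distrib] at hN; omega
    have hdi : deg i + wdeg deg e₀ = wdeg deg e := by
      conv_rhs => rw [hee, wdeg_add, wdeg_single, one_mul]
    let e₁ : Fin s → ℕ := Pi.single i 1 + Pi.single j₀ (n - deg i)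
    have hw₁ : wdeg deg e₁ = n := by
      rw [wdeg_add, wdeg_single, wdeg_single, one_mul, hj₀, mul_one, Nat.add_sub_cancel' (hn i)]
    have hih := ih e₀ k (j + deg i) hN₀ (by omega)
    have : Localization.mk (monom f e * f j₀ ^ j)
        (pw (f j₀ ^ n) k) =
        Localization.mk (monom f e₁) (pw1 (f j₀ ^ n)) *
          Localization.mk (monom f e₀ * f j₀ ^ (j + deg i)) (pw (f j₀ ^ n) k) := by
      rw [Localization.mk_mul, Localization.mk_eq_mk_iff, Localization.r_iff_exists]
      refine ⟨1, ?_⟩
      rw [hee, monom_add, monom_add, monom_single, monom_single]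
      have hp : f j₀ ^ n = f j₀ ^ (n - deg i) * f j₀ ^ (deg i) := by
        rw [← pow_add, Nat.sub_add_cancel (hn i)]
      simp only [Submonoid.coe_mul, Submonoid.coe_one, one_mul, pow_one]
      rw [pow_add]
      nth_rewrite 1 [hp]
      ring
    rw [this]
    exact mul_mem (monom_div_mem f _ hw₁) hih

/-- A constant over a standard open. -/
theorem appLE_const {n : ℕ} (hn : 0 < n) {g : A} (hg : g ∈ 𝒜 n) (r : R)
    (hU : Proj.basicOpen 𝒜 g ≤ (Proj.toSpecZero 𝒜 ≫ Spec.map (CommRingCat.ofHom (algebraMap R (𝒜 0)))) ⁻¹ᵁ ⊤) :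
    (Proj.awayToSection 𝒜 g) (HomogeneousLocalization.fromZeroRingHom 𝒜 _ (algebraMap R (𝒜 0) r)) =
      (Proj.toSpecZero 𝒜 ≫ Spec.map (CommRingCat.ofHom (algebraMap R (𝒜 0)))).appLE ⊤ (Proj.basicOpen 𝒜 g) hU
        ((Scheme.ΓSpecIso (CommRingCat.of R)).inv r) := by
  set q := Proj.toSpecZero 𝒜 ≫ Spec.map (CommRingCat.ofHom (algebraMap R (𝒜 0))) with hqdef
  have h : (Scheme.ΓSpecIso (CommRingCat.of R)).inv ≫ q.appLE ⊤ (Proj.basicOpen 𝒜 g) hU =
      CommRingCat.ofHom (algebraMap R (𝒜 0)) ≫
        CommRingCat.ofHom (HomogeneousLocalization.fromZeroRingHom 𝒜 _) ≫ Proj.awayToSection 𝒜 g := by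
    apply UPLib.toSpecΓ_map_injective
    have hq : q = (Proj 𝒜).toSpecΓ ≫ Spec.map ((Scheme.ΓSpecIso (CommRingCat.of R)).inv ≫ q.appTop) := by
      rw [Spec.map_comp, ← Category.assoc, ← Scheme.toSpecΓ_naturality, Category.assoc]
      simp
    have hι : (Proj.basicOpen 𝒜 g).ι = (Proj.basicOpen 𝒜 g).toSpecΓ ≫
        Spec.map (Proj.awayToSection 𝒜 g) ≫ Proj.awayι 𝒜 g hg hn := by
      rw [← Proj.basicOpenIsoSpec_inv_ι, ← Category.assoc, ← Category.assoc]
      rw [show (Proj.basicOpen 𝒜 g).toSpecΓ ≫ Spec.map (Proj.awayToSection 𝒜 g) =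
          (Proj.basicOpenIsoSpec 𝒜 g hg hn).hom from (Proj.basicOpenIsoSpec_hom 𝒜 g hg hn).symm]
      simp
    rw [show q.appLE ⊤ (Proj.basicOpen 𝒜 g) hU =
      q.appTop ≫ (Proj 𝒜).presheaf.map (homOfLE (le_top : Proj.basicOpen 𝒜 g ≤ ⊤)).op from rfl]
    rw [← Category.assoc (Scheme.ΓSpecIso (CommRingCat.of R)).inv, Spec.map_comp, ← Category.assoc]
    rw [Scheme.Opens.toSpecΓ_SpecMap_presheaf_map_top, Category.assoc, ← hq]
    rw [hι]
    simp only [Spec.map_comp, Category.assoc, hqdef, Proj.awayι_toSpecZero_assoc]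
  exact (ConcreteCategory.congr_hom h r).symm

/-- The coordinate of a homogeneous element in the generator `g`. -/
theorem coef_div {n : ℕ} {g : A} (hg : g ∈ 𝒜 n) {U : (Proj 𝒜).Opens} (hU : U = Proj.basicOpen 𝒜 g)
    (b : 𝒜 n) (hb : (b : A) ∈ 𝒜 (1 • n))
    (hz : IsGen (Twist.twist 𝒜 (n : ℤ)) U
      (resM _ le_top (show Γ(Twist.twist 𝒜 (n : ℤ), ⊤) from Twist.globalOf 𝒜 ⟨g, hg⟩))) :
    (Proj 𝒜).presheaf.map (homOfLE hU.le).op (Proj.awayToSection 𝒜 g (Away.mk 𝒜 hg 1 (b : A) hb)) =
      hz.coef le_rfl (resM _ le_top (show Γ(Twist.twist 𝒜 (n : ℤ), ⊤) from Twist.globalOf 𝒜 b)) := by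
  refine (hz.coef_eq le_rfl ?_).symm
  rw [resM_self]
  subst hU
  refine sectN_ext fun y => ?_
  refine (Twist.coe_smul_val _ y.1 _ _).trans ?_
  refine (congrArg (· * _) (val_awayToSection_mk hg 1 _ hb y)).trans ?_
  show Localization.mk (b : A) _ * Localization.mk g _ = Localization.mk (b : A) _
  exact (Localization.mk_mul _ _ _ _).trans (Localization.mk_eq_mk_iff.2 (Localization.r_iff_exists.2
    ⟨1, by simp only [Submonoid.coe_mul, Submonoid.coe_one]; ring⟩))

set_option maxHeartbeats 1600000 in
include hdeg hf hgen in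
/-- The closed immersion given by the monomials of degree `n`. -/
theorem exists_closedImmersion {n : ℕ} (hn : 0 < n) (J : Set (Fin s → ℕ)) (hJ : ∀ e ∈ J, wdeg deg e = n)
    (hcov : ∀ x : Proj 𝒜, ∃ e ∈ J, x ∈ Proj.basicOpen 𝒜 (monom f e))
    (hring : ∀ G : Fin s → ℕ, G ∈ J → ∀ (k : ℕ) (e : Fin s → ℕ), wdeg deg e = k * n →
      Localization.mk (monom f e) (pw (monom f G) k) ∈ fracRing R f deg n (monom f G)) :
    ∃ (N : ℕ) (i : Proj 𝒜 ⟶ CohB1.ProjSpaceOver N (Spec (CommRingCat.of R))), IsClosedImmersion i ∧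
      i ≫ pullback.snd (CohB1.ProjSpace.toSpec N (ULift.{u} ℤ)) (specULiftZIsTerminal.from (Spec (CommRingCat.of R))) =
        Proj.toSpecZero 𝒜 ≫ Spec.map (CommRingCat.ofHom (algebraMap R (𝒜 0))) ∧
      Nonempty (Twist.twist 𝒜 (n : ℤ) ≅
        (Scheme.Modules.pullback i).obj (Twist.twistOver N (Spec (CommRingCat.of R)) 1)) := by
  classical
  let q : Proj 𝒜 ⟶ Spec (CommRingCat.of R) :=
    Proj.toSpecZero 𝒜 ≫ Spec.map (CommRingCat.ofHom (algebraMap R (𝒜 0)))
  have htop : chartOpen (𝒜 := 𝒜) n = ⊤ := top_le_iff.mp fun x _ => by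
    obtain ⟨e, he, hx⟩ := hcov x
    exact Opens.mem_iSup.2 ⟨⟨monom f e, hJ e he ▸ monom_mem f hf e⟩, hx⟩
  have hL : PicF.IsInvertible (Twist.twist 𝒜 (n : ℤ)) := by
    have key : ∀ N : ℤ, (1 : ℤ) * n = N → PicF.IsInvertible (Twist.twist 𝒜 N) := by
      rintro N rfl
      refine isInvertible_of_gens fun x => ?_
      obtain ⟨e, he, hx⟩ := hcov x
      exact ⟨_, hx, _, isGen_tau (hJ e he ▸ monom_mem f hf e) 1⟩
    exact key _ (one_mul _)
  have hgl : ∀ (g : A) (hg : g ∈ 𝒜 n), glocus (Twist.twist 𝒜 (n : ℤ))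
      (show Γ(Twist.twist 𝒜 (n : ℤ), ⊤) from Twist.globalOf 𝒜 ⟨g, hg⟩) = Proj.basicOpen 𝒜 g := by
    intro g hg
    have key : ∀ (k : ℕ) (hk : k = n) (hg' : g ∈ 𝒜 k),
        glocus (Twist.twist 𝒜 (k : ℤ)) (show Γ(Twist.twist 𝒜 (k : ℤ), ⊤) from Twist.globalOf 𝒜 ⟨g, hg'⟩) ⊓ chartOpen n =
          Proj.basicOpen 𝒜 g ⊓ chartOpen n →
        glocus (Twist.twist 𝒜 (n : ℤ)) (show Γ(Twist.twist 𝒜 (n : ℤ), ⊤) from Twist.globalOf 𝒜 ⟨g, hg⟩) =
          Proj.basicOpen 𝒜 g := by
      rintro k rfl hg' h
      rwa [htop, inf_top_eq, inf_top_eq] at h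
    exact key (1 * n) (one_mul n) (by rwa [one_mul]) (glocus_globalOf_inf (d := n) (n := 1) (by rwa [one_mul]))
  -- the sections
  let I := Option {e : Fin s → Fin (n + 1) // wdeg deg (fun i => (e i).val) = n}
  let E := Fintype.equivFin I
  obtain ⟨M, hM⟩ : ∃ M, Fintype.card I = M + 1 := Nat.exists_eq_succ_of_ne_zero Fintype.card_ne_zero
  let E' : I ≃ Fin (M + 1) := E.trans (finCongr hM)
  let num : I → 𝒜 n := fun o => o.elim 0 fun e =>
    ⟨monom f (fun i => (e.1 i).val), (congrArg 𝒜 e.2).le (monom_mem f hf _)⟩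
  let σ : Fin (M + 1) → Γ(Twist.twist 𝒜 (n : ℤ), ⊤) := fun j => Twist.globalOf 𝒜 (num (E'.symm j))
  have hidx : ∀ e, wdeg deg e = n → ∃ j, (num (E'.symm j) : A) = monom f e := fun e he => by
    have hle : ∀ i, e i < n + 1 := fun i => by
      have h1 : e i * deg i ≤ wdeg deg e :=
        Finset.single_le_sum (f := fun i => e i * deg i) (fun _ _ => Nat.zero_le _) (Finset.mem_univ i)
      have h2 : e i ≤ e i * deg i := Nat.le_mul_of_pos_right _ (hdeg i)
      omega
    exact ⟨E' (some ⟨fun i => ⟨e i, hle i⟩, he⟩), by rw [Equiv.symm_apply_apply]; rfl⟩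
  let J' : Set (Fin (M + 1)) := {j | ∃ e ∈ J, (num (E'.symm j) : A) = monom f e}
  have hglσ : ∀ j, glocus _ (σ j) = Proj.basicOpen 𝒜 (num (E'.symm j) : A) := fun j => hgl _ (num (E'.symm j)).2
  have hva : RelAmple.IsRelVeryAmplePn q (Twist.twist 𝒜 (n : ℤ)) := by
    refine Groth.Agent.MorProj.isRelVeryAmplePn_of_sections' q hL σ J' (fun x => ?_) (fun j hj => ?_)
      (fun _ => ⊤) (fun _ _ => isAffineOpen_top _) (fun _ _ => le_top) fun j hj => ?_
    · obtain ⟨e, he, hx⟩ := hcov x
      obtain ⟨j, hj⟩ := hidx e (hJ e he)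
      exact ⟨j, ⟨e, he, hj⟩, by rw [hglσ, hj]; exact hx⟩
    · rw [hglσ]; exact Proj.isAffineOpen_basicOpen 𝒜 _ (num (E'.symm j)).2 hn
    · obtain ⟨G, hG, hGj⟩ := hj
      have key : ∀ (U : (Proj 𝒜).Opens), U = Proj.basicOpen 𝒜 (num (E'.symm j) : A) →
          ∀ (hU : U ≤ q ⁻¹ᵁ ⊤) (hz : IsGen _ U (resM _ le_top (σ j))),
          Subring.closure (Set.range (q.appLE ⊤ U hU) ∪
            Set.range fun k => hz.coef le_rfl (resM _ le_top (σ k))) = ⊤ := by
        rintro U rfl hU hz
        set g : A := (num (E'.symm j) : A) with hgdef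
        have hg : g ∈ 𝒜 n := (num (E'.symm j)).2
        let φ : CommRingCat.of (Away 𝒜 g) ⟶ Γ(Proj 𝒜, Proj.basicOpen 𝒜 g) := Proj.awayToSection 𝒜 g
        have hconst : ∀ r : R, φ (HomogeneousLocalization.fromZeroRingHom 𝒜 _ (algebraMap R (𝒜 0) r)) ∈
            Set.range (q.appLE ⊤ (Proj.basicOpen 𝒜 g) hU) := fun r => ⟨_, (appLE_const hn hg r hU).symm⟩
        have hfrac : ∀ k (b : A) (hb : (num (E'.symm k) : A) = b) (hb' : b ∈ 𝒜 (1 • n)),
            φ (Away.mk 𝒜 hg 1 b hb') = hz.coef le_rfl (resM _ le_top (σ k)) := by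
          rintro k b rfl hb'
          exact (ConcreteCategory.congr_hom ((Proj 𝒜).presheaf.map_id _) _).symm.trans (coef_div hg rfl (num (E'.symm k)) hb' hz)
        have hsurj : Function.Surjective φ :=
          (ConcreteCategory.bijective_of_isIso (Proj.basicOpenIsoAway 𝒜 g hg hn).hom).2
        let T : Subring (Away 𝒜 g) :=
          (Subring.closure (Set.range (q.appLE ⊤ (Proj.basicOpen 𝒜 g) hU) ∪
            Set.range fun k => hz.coef le_rfl (resM _ le_top (σ k)))).comap φ.hom
        let V := algebraMap (Away 𝒜 g) (Localization.Away g)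
        have hVinj : Function.Injective V := fun a b h => HomogeneousLocalization.val_injective _ h
        have hle : fracRing R f deg n g ≤ T.map V := by
          rw [fracRing, Subring.closure_le]
          rintro z (⟨r, rfl⟩ | ⟨e, he, rfl⟩)
          · refine ⟨HomogeneousLocalization.fromZeroRingHom 𝒜 _ (algebraMap R (𝒜 0) r), ?_, ?_⟩
            · exact Subring.subset_closure (Or.inl (hconst r))
            · exact (HomogeneousLocalization.val_mk _).trans (Localization.mk_one_eq_algebraMap _)
          · obtain ⟨k, hk⟩ := hidx e he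
            have hb' : monom f e ∈ 𝒜 (1 • n) := by rw [one_smul, ← he]; exact monom_mem f hf e
            refine ⟨Away.mk 𝒜 hg 1 (monom f e) hb', ?_, ?_⟩
            · exact Subring.subset_closure (Or.inr ⟨k, (hfrac k _ hk hb').symm⟩)
            · show (Away.mk 𝒜 hg 1 (monom f e) hb').val = _
              rw [Away.val_mk]
              congr 1
              exact Subtype.ext (pow_one g)
        refine top_le_iff.mp fun c _ => ?_
        obtain ⟨z, rfl⟩ := hsurj c
        obtain ⟨k, x, hx, rfl⟩ := Away.mk_surjective 𝒜 hg z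
        have hmem : Localization.mk x (pw g k) ∈ fracRing R f deg n g := by
          refine span_mem f hf hgen g (fun e he => ?_) (show x ∈ 𝒜 (k * n) by simpa using hx)
          have h := hring G hG k e he
          revert h
          rw [← hGj]
          exact id
        obtain ⟨w, hw, hwe⟩ := hle hmem
        have : w = Away.mk 𝒜 hg k x hx := hVinj (hwe.trans (Away.val_mk 𝒜 k hg x hx).symm)
        exact this ▸ hw
      exact key _ (hglσ j) _ _
  obtain ⟨N, i, hi, hiq, hiso⟩ := hva
  haveI : Algebra.FiniteType R A := ⟨⟨Finset.univ.image f, by simpa using hgen⟩⟩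
  haveI : IsScalarTower R (𝒜 0) A  := ⟨fun r x y => smul_mul_assoc r (x : A) y⟩
  haveI : Algebra.FiniteType (𝒜 0) A := Algebra.FiniteType.of_restrictScalars_finiteType R (𝒜 0) A
  haveI : IsClosedImmersion (Spec.map (CommRingCat.ofHom (algebraMap R (𝒜 0)))) :=
    IsClosedImmersion.spec_of_surjective _ (algebraMap_zero_surjective f hdeg hf hgen)
  haveI : IsProper q := inferInstanceAs (IsProper (_ ≫ _))
  have hprop : IsProper (i ≫ pullback.snd (CohB1.ProjSpace.toSpec N (ULift.{u} ℤ))
      (specULiftZIsTerminal.from (Spec (CommRingCat.of R)))) := by rw [hiq]; infer_instance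
  have hsep : IsSeparated (CohB1.ProjSpace.toSpec N (ULift.{u} ℤ)) := by
    unfold CohB1.ProjSpace.toSpec
    exact MorphismProperty.comp_mem @IsSeparated _ _ (Proj.isSeparated _) inferInstance
  have hsep' : IsSeparated (pullback.snd (CohB1.ProjSpace.toSpec N (ULift.{u} ℤ))
      (specULiftZIsTerminal.from (Spec (CommRingCat.of R)))) :=
    MorphismProperty.pullback_snd (P := @IsSeparated) _ _ hsep
  haveI : IsProper i := MorphismProperty.of_postcomp (W := @IsProper) (W' := @IsSeparated) i _ hsep' hprop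
  exact ⟨N, i, IsClosedImmersion.of_isPreimmersion i i.isClosedMap.isClosed_range, hiq, hiso⟩

end Groth.Agent.EtLib9.TwistVeryAmple
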